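import Mathlib
import Cfsg.Agent.Lib.H16.Suz5

/-!
Higman's theorem on Suzuki 2-groups: a self-centralising invariant abelian normal subgroup has exponent 4.
-/

set_option autoImplicit false

namespace H16.Suz

open Subgroup

universe u

section
variable {P : Type u} [Group P] [Finite P] {ξ : MulAut P} {A : Subgroup P} {e : ℕ}

theorem star (h : Reg P ξ) (hA : AD ξ A) (he : Ex A e) (h2 : 2 ≤ e)
    (hC : ∀ x : P, (∀ a ∈ A, x * a = a * x) → x ∈ A) {B : Subgroup P} (hAB : A < B) (hBi : ∀ x ∈ B, ξ x ∈ B)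
    (irr : ∀ W : Subgroup P, A ≤ W → W ≤ B → (∀ w ∈ W, ξ w ∈ W) → W = A ∨ W = B) :
    ∃ i, 1 ≤ i ∧ i ≤ e - 1 ∧ (∀ a ∈ A, ∀ b ∈ B, cm a b ^ (2 ^ i) = 1) ∧
      (∀ b ∈ B, ∀ a ∈ A, cm a b ^ (2 ^ (i - 1)) = 1 → b ∈ A ∨ a ^ (2 ^ (e - 1)) = 1) := by
  classical
  have hcE : ∀ {z : P}, z * z = 1 → ∀ g, cm z g = 1 := fun {z} hz g => cm_eq_one_iff.mpr (inv_comm h hz g)
  have htop : ∀ a ∈ A, a ^ (2 ^ (e - 1)) * a ^ (2 ^ (e - 1)) = 1 := by
    intro a ha
    rw [← pow_add, ← two_mul, ← pow_succ', Nat.sub_add_cancel he.one_le]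
    exact he.pow_eq a ha
  have h1 : ∀ a ∈ A, ∀ b : P, cm a b ^ (2 ^ (e - 1)) = 1 := by
    intro a ha b
    rw [← hA.cm_pow ha]
    exact hcE (htop a ha) b
  have hex : ∃ i, ∀ a ∈ A, ∀ b ∈ B, cm a b ^ (2 ^ i) = 1 := ⟨e - 1, fun a ha b _ => h1 a ha b⟩
  obtain ⟨i, hidef⟩ : ∃ i, i = Nat.find hex := ⟨_, rfl⟩
  have hi : ∀ a ∈ A, ∀ b ∈ B, cm a b ^ (2 ^ i) = 1 := by rw [hidef]; exact Nat.find_spec hex
  have hile : i ≤ e - 1 := by rw [hidef]; exact Nat.find_min' hex fun a ha b _ => h1 a ha b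
  have hi1 : 1 ≤ i := by
    by_contra h0
    have h0' : i = 0 := by omega
    rw [h0'] at hi
    obtain ⟨b, hb, hbA⟩ := SetLike.exists_of_lt hAB
    apply hbA
    apply hC
    intro a ha
    have := hi a ha b hb
    rw [pow_zero, pow_one, cm_eq_one_iff] at this
    exact this.symm
  refine ⟨i, hi1, hile, hi, ?_⟩
  -- choose roots
  have hchoose : ∀ z : P, ∃ a, z * z = 1 → a ∈ A ∧ a ^ (2 ^ (e - 1)) = z := by
    intro z
    by_cases hz : z * z = 1
    · obtain ⟨x, hx, hxz⟩ := H0 h hA he hz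
      exact ⟨x, fun _ => ⟨hx, hxz⟩⟩
    · exact ⟨1, fun h' => (hz h').elim⟩
  choose s hs using hchoose
  have hii : 2 ^ (i - 1) * 2 = 2 ^ i := by rw [← pow_succ]; congr 1; omega
  have hsqE : ∀ a ∈ A, ∀ b ∈ B, cm a b ^ (2 ^ (i - 1)) * cm a b ^ (2 ^ (i - 1)) = 1 := by
    intro a ha b hb
    rw [← pow_add, ← two_mul, mul_comm, hii]
    exact hi a ha b hb
  have hind : ∀ z, z * z = 1 → ∀ u ∈ A, u ^ (2 ^ (e - 1)) = z → ∀ x ∈ B,
      cm (s z) x ^ (2 ^ (i - 1)) = cm u x ^ (2 ^ (i - 1)) := by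
    intro z hz u hu huz x hx
    obtain ⟨hsA, hsz⟩ := hs z hz
    have h3 : (u⁻¹ * s z) ^ (2 ^ (e - 1)) = 1 := by
      rw [hA.mul_pow (A.inv_mem hu) hsA, inv_pow, hsz, huz, inv_mul_cancel]
    obtain ⟨v, hv, hvu⟩ := H1 h hA he (k := e - 1) (by omega) (A.mul_mem (A.inv_mem hu) hsA) h3
    have h4 : s z = u * (u⁻¹ * s z) := by group
    have h5 : e - (e - 1) = 1 := by omega
    rw [h5, pow_one] at hvu
    rw [h4, hA.cm_mul hu (A.mul_mem (A.inv_mem hu) hsA), hA.mul_pow (hA.cm_mem hu x)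
      (hA.cm_mem (A.mul_mem (A.inv_mem hu) hsA) x), ← hvu, hA.cm_pow hv, ← pow_mul, mul_comm 2, hii,
      hi v hv x hx, mul_one]
  rcases kl h hAB hA.inv hBi irr (fun x z => cm (s z) x ^ (2 ^ (i - 1)))
    (by
      intro x hx z hz
      exact hsqE _ (hs z hz).1 x hx)
    (by
      intro x hx z hz z' hz'
      have hzz : (z * z') * (z * z') = 1 := (E h).mul_mem hz hz'
      have h3 : (s z * s z') ^ (2 ^ (e - 1)) = z * z' := by
        rw [hA.mul_pow (hs z hz).1 (hs z' hz').1, (hs z hz).2, (hs z' hz').2]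
      rw [hind _ hzz (s z * s z') (A.mul_mem (hs z hz).1 (hs z' hz').1) h3 x hx,
        hA.cm_mul (hs z hz).1 (hs z' hz').1, hA.mul_pow (hA.cm_mem (hs z hz).1 x) (hA.cm_mem (hs z' hz').1 x)])
    (by
      intro x hx x' hx' z hz
      have hsA := (hs z hz).1
      rw [hA.cm_mul_r hsA, hA.mul_pow (A.mul_mem (hA.cm_mem hsA x) (hA.cm_mem hsA x'))
        (hA.cm_mem (hA.cm_mem hsA x) x'), hA.mul_pow (hA.cm_mem hsA x) (hA.cm_mem hsA x'),
        ← hA.cm_pow (hA.cm_mem hsA x) x', hcE (hsqE _ hsA x hx), mul_one])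
    (by
      intro x hx z hz
      rw [hA.cm_self (hs z hz).1 hx, one_pow])
    (by
      intro x hx z hz
      have hzz : ξ z * ξ z = 1 := E_inv (h := h) z hz
      rw [hind _ hzz (ξ (s z)) (hA.inv _ (hs z hz).1) (by rw [← map_pow, (hs z hz).2]) (ξ x) (hBi x hx),
        ← map_cm, map_pow]) with h3 | h3
  · exfalso
    have h4 := Nat.find_min hex (m := i - 1) (by omega)
    apply h4
    intro a ha b hb
    have := h3 b hb _ (htop a ha)
    rwa [hind _ (htop a ha) a ha rfl b hb] at this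
  · intro b hb a ha hab
    refine h3 b hb _ (htop a ha) ?_
    rw [hind _ (htop a ha) a ha rfl b hb]
    exact hab

theorem e_eq_two (h : Reg P ξ) (hA : AD ξ A) (he : Ex A e) (h2 : 2 ≤ e)
    (hC : ∀ x : P, (∀ a ∈ A, x * a = a * x) → x ∈ A) {B : Subgroup P} (hAB : A < B) (hBi : ∀ x ∈ B, ξ x ∈ B)
    (irr : ∀ W : Subgroup P, A ≤ W → W ≤ B → (∀ w ∈ W, ξ w ∈ W) → W = A ∨ W = B)
    (hsq : ∀ b ∈ B, b * b ∈ A) : e = 2 := by
  by_contra hne
  have h3 : 3 ≤ e := by omega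
  have hAn := hA.nm
  have hcE : ∀ {z : P}, z * z = 1 → ∀ g, cm z g = 1 := fun {z} hz g => cm_eq_one_iff.mpr (inv_comm h hz g)
  obtain ⟨i, hi1, hile, hi, star⟩ := star h hA he h2 hC hAB hBi irr
  obtain ⟨b, hb, hbA⟩ := SetLike.exists_of_lt hAB
  have htop : ∀ a ∈ A, a ^ (2 ^ (e - 1)) * a ^ (2 ^ (e - 1)) = 1 := by
    intro a ha
    rw [← pow_add, ← two_mul, ← pow_succ', Nat.sub_add_cancel he.one_le]
    exact he.pow_eq a ha
  have hS1 : ∀ b ∈ B, b ∉ A → (b * b) ^ (2 ^ (e - 1)) = 1 := by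
    intro b hb hbA
    refine (star b hb _ (hsq b hb) ?_).resolve_left hbA
    have : cm (b * b) b = 1 := by rw [cm_eq_one_iff]; group
    rw [this, one_pow]
  rcases Nat.lt_or_ge i 2 with hi2 | hi2
  · -- i = 1
    have hi' : i = 1 := by omega
    subst hi'
    have hcs : ∀ a ∈ A, cm a b * cm a b = 1 := by
      intro a ha
      have := hi a ha b hb
      rwa [pow_one, pow_two] at this
    obtain ⟨u, hu, hub⟩ := H1 h hA he (k := e - 1) (by omega) (hsq b hb) (hS1 b hb hbA)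
    rw [show e - (e - 1) = 1 by omega, pow_one, pow_two] at hub
    have hz := hcs u⁻¹ (A.inv_mem hu)
    obtain ⟨t, ht, htz⟩ := H0 h hA he hz
    let w := t ^ (2 ^ (e - 2))
    have hwA : w ∈ A := A.pow_mem ht _
    have hww : w * w = cm u⁻¹ b := by
      simp only [w]
      rw [← pow_add, ← two_mul, ← pow_succ', show e - 2 + 1 = e - 1 by omega]
      exact htz
    have hcw : cm w b = 1 := by
      simp only [w]
      have h4 : 2 ^ (e - 2) = 2 ^ (e - 3) * 2 := by rw [← pow_succ]; congr 1; omega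
      rw [h4, pow_mul, hA.cm_pow (A.pow_mem ht _), pow_two, hcs _ (A.pow_mem ht _)]
    have hu' := A.inv_mem hu
    have h5 : cm (u⁻¹ * w) b = cm u⁻¹ b := by rw [hA.cm_mul hu' hwA, hcw, mul_one]
    have h6 : (b * (u⁻¹ * w)) * (b * (u⁻¹ * w)) = 1 := by
      have e1 : (b * (u⁻¹ * w)) * (b * (u⁻¹ * w)) = b * b * ((u⁻¹ * w) * cm (u⁻¹ * w) b * (u⁻¹ * w)) := by
        unfold cm; group
      have e2 : (u⁻¹ * w) * cm u⁻¹ b * (u⁻¹ * w) = (u⁻¹ * u⁻¹) * (w * w) * cm u⁻¹ b := by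
        have c1 : cm u⁻¹ b * (u⁻¹ * w) = (u⁻¹ * w) * cm u⁻¹ b :=
          hA.ab _ (hA.cm_mem hu' b) _ (A.mul_mem hu' hwA)
        have c2 : w * u⁻¹ = u⁻¹ * w := hA.ab _ hwA _ hu'
        calc (u⁻¹ * w) * cm u⁻¹ b * (u⁻¹ * w) = (u⁻¹ * w) * (cm u⁻¹ b * (u⁻¹ * w)) := by group
          _ = (u⁻¹ * w) * ((u⁻¹ * w) * cm u⁻¹ b) := by rw [c1]
          _ = u⁻¹ * (w * u⁻¹) * w * cm u⁻¹ b := by group
          _ = u⁻¹ * (u⁻¹ * w) * w * cm u⁻¹ b := by rw [c2]
          _ = _ := by group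
      rw [e1, h5, e2, hww, mul_assoc (u⁻¹ * u⁻¹), hz, mul_one, ← hub]
      group
    have h7 := A.mul_mem (hA.El _ h6) (A.inv_mem (A.mul_mem hu' hwA))
    rw [mul_inv_cancel_right] at h7
    exact hbA h7
  · -- i ≥ 2
    have key : ∀ a ∈ A, ∀ b ∈ B, b ∉ A → cm a b ^ (2 ^ (i - 1)) = a ^ (2 ^ (e - 1)) := by
      intro a ha b hb hbA
      have hua := hA.cm_mem ha b
      obtain ⟨v, hv, hva⟩ := H1 h hA he (k := i) (by omega) hua (hi a ha b hb)
      have hT : cm a b * cm a b * cm (cm a b) b = 1 := by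
        rw [← hA.cm_mul_r ha b b]
        exact hA.cm_self ha (hsq b hb)
      have hvb : cm (cm a b) b = cm v b ^ (2 ^ (e - i)) := by
        conv_lhs => rw [← hva]
        exact hA.cm_pow hv b _
      have hvbA := hA.cm_mem hv b
      have h4 := congrArg (fun x => x ^ (2 ^ (i - 2))) hT
      simp only [one_pow] at h4
      rw [hvb, hA.mul_pow (A.mul_mem hua hua) (A.pow_mem hvbA _), ← pow_two, ← pow_mul, ← pow_mul,
        ← pow_succ', ← pow_add, show i - 2 + 1 = i - 1 by omega, show e - i + (i - 2) = e - 2 by omega] at h4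
      rcases Nat.lt_or_ge i (e - 1) with hlt | hge
      · have h5 : cm v b ^ (2 ^ (e - 2)) = 1 := by
          have h6 : 2 ^ (e - 2) = 2 ^ i * 2 ^ (e - 2 - i) := by rw [← pow_add]; congr 1; omega
          rw [h6, pow_mul, hi v hv b hb, one_pow]
        rw [h5, mul_one] at h4
        rw [h4]
        rcases star b hb a ha h4 with h7 | h7
        · exact (hbA h7).elim
        · exact h7.symm
      · have hie : i = e - 1 := by omega
        have h5 : cm (a * v) b ^ (2 ^ (i - 1)) = 1 := by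
          rw [hA.cm_mul ha hv, hA.mul_pow hua hvbA, show i - 1 = e - 2 by omega]
          rw [show i - 1 = e - 2 by omega] at h4
          exact h4
        have h6 := (star b hb (a * v) (A.mul_mem ha hv) h5).resolve_left hbA
        rw [hA.mul_pow ha hv] at h6
        have h7 : v ^ (2 ^ (e - 1)) = cm a b ^ (2 ^ (i - 1)) := by
          rw [← hva, ← pow_mul, ← pow_add]
          congr 2
          omega
        rw [h7] at h6
        have h8 := htop a ha
        have h9 : a ^ (2 ^ (e - 1)) = (a ^ (2 ^ (e - 1)))⁻¹ := eq_inv_of_mul_eq_one_left h8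
        rw [h9]
        exact eq_inv_of_mul_eq_one_right h6
    obtain ⟨a, ha, ha1⟩ := he.exists_ne
    have hξb : ξ b ∉ A := by
      intro hcon
      have := zpow_inv_of hA.inv (-1) hcon
      rw [zpow_neg_one, MulAut.inv_apply_self] at this
      exact hbA this
    have hbξ : b * ξ b ∉ A := by
      intro hcon
      apply hbA
      apply fpf_sec h hA.inv
      have h4 : ξ b * b⁻¹ = b⁻¹ * (b * ξ b) * b * (b * b)⁻¹ := by group
      rw [h4]
      exact A.mul_mem (hA.conj_mem hcon b) (A.inv_mem (hsq b hb))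
    have h4 := key a ha b hb hbA
    have h5 := key a ha (ξ b) (hBi b hb) hξb
    have h6 := key a ha (b * ξ b) (B.mul_mem hb (hBi b hb)) hbξ
    have hcab := hA.cm_mem ha b
    rw [hA.cm_mul_r ha, hA.mul_pow (A.mul_mem hcab (hA.cm_mem ha _)) (hA.cm_mem hcab _),
      hA.mul_pow hcab (hA.cm_mem ha _), h4, h5, htop a ha, one_mul, ← hA.cm_pow hcab, h4, hcE (htop a ha)] at h6
    exact ha1 h6.symm

end

end H16.Suz
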