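import Mathlib
import Cfsg.Agent.Lib.H16.Suz6

/-!
Higman's theorem on Suzuki 2-groups: the case of a self-centralising abelian normal subgroup of exponent 4.
-/

set_option autoImplicit false

namespace H16.Suz

open Subgroup

universe u

section
variable {P : Type u} [Group P] [Finite P] {ξ : MulAut P} {A : Subgroup P}

theorem exists_compl_inv (h : Reg P ξ) (A M : Subgroup P) [A.Normal] (hAi : ∀ x ∈ A, ξ x ∈ A)
    (hMi : ∀ x ∈ M, ξ x ∈ M) (hAM : A ≤ M) (hsq : ∀ g : P, g * g ∈ A) (hM : M ≠ ⊤) :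
    ∃ N : Subgroup P, A < N ∧ (∀ x ∈ N, ξ x ∈ N) ∧ N ⊓ M ≤ A := by
  classical
  have hsqV : ∀ v : P ⧸ A, v * v = 1 := by
    intro v
    induction v using QuotientGroup.induction_on with
    | H x => exact (QuotientGroup.eq_one_iff _).mpr (hsq x)
  have hcomm : ∀ v w : P ⧸ A, v * w = w * v := by
    intro v w
    have h1 := hsqV (v * w)
    have h2 : v * w = (v * w)⁻¹ := eq_inv_of_mul_eq_one_left h1
    have h3 : v⁻¹ = v := inv_eq_of_mul_eq_one_left (hsqV v)
    have h4 : w⁻¹ = w := inv_eq_of_mul_eq_one_left (hsqV w)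
    rw [h2, mul_inv_rev, h3, h4]
  let _ : CommGroup (P ⧸ A) := { (inferInstance : Group (P ⧸ A)) with mul_comm := hcomm }
  let _ : Module (ZMod 2) (Additive (P ⧸ A)) := AddCommGroup.zmodModule (fun v => by
    rw [two_nsmul]
    exact congrArg Additive.ofMul (hsqV v.toMul))
  let φ : (P ⧸ A) →* (P ⧸ A) := QuotientGroup.map A A ξ.toMonoidHom (fun x hx => hAi x hx)
  have hφ : ∀ x : P, φ (x : P ⧸ A) = ((ξ x : P) : P ⧸ A) := fun x => rfl
  let T : Additive (P ⧸ A) →ₗ[ZMod 2] Additive (P ⧸ A) := AddMonoidHom.toZModLinearMap 2 (MonoidHom.toAdditive φ)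
  have hT : ∀ x : P, T (Additive.ofMul (x : P ⧸ A)) = Additive.ofMul ((ξ x : P) : P ⧸ A) := fun x => rfl
  have hTk : ∀ (k : ℕ) (x : P), (T ^ k) (Additive.ofMul (x : P ⧸ A)) = Additive.ofMul (((ξ ^ k) x : P) : P ⧸ A) := by
    intro k
    induction k with
    | zero => intro x; rfl
    | succ k ih =>
      intro x
      rw [pow_succ, Module.End.mul_apply, hT, ih, pow_succ, MulAut.mul_apply]
  obtain ⟨F, _, _, _, n, lam, ψ, hn2, hFn, hlam, hξ, _⟩ := coords h
  have hTm : T ^ (2 ^ n - 1) = 1 := by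
    ext v
    obtain ⟨x, hx⟩ := QuotientGroup.mk_surjective v.toMul
    have h1 : v = Additive.ofMul (x : P ⧸ A) := by rw [hx]; rfl
    rw [h1, hTk, ← hξ, pow_orderOf_eq_one]
    rfl
  have hodd : ((2 ^ n - 1 : ℕ) : ZMod 2) ≠ 0 := by
    have h1 : 2 ≤ 2 ^ n := by
      calc 2 = 2 ^ 1 := rfl
        _ ≤ 2 ^ n := Nat.pow_le_pow_right (by norm_num) (by omega)
    rw [Nat.cast_sub (by omega)]
    have h2 : ((2 ^ n : ℕ) : ZMod 2) = 0 := by
      rw [Nat.cast_pow]
      have : ((2 : ℕ) : ZMod 2) = 0 := by decide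
      rw [this, zero_pow (by omega)]
    rw [h2]
    decide
  have hss : Module.End.IsSemisimple T := by
    refine Module.End.isSemisimple_of_squarefree_aeval_eq_zero (p := Polynomial.X ^ (2 ^ n - 1) - 1) ?_ ?_
    · exact (Polynomial.X_pow_sub_one_separable_iff.mpr hodd).squarefree
    · rw [map_sub, map_pow, Polynomial.aeval_X, map_one, hTm, sub_self]
  rw [Module.End.isSemisimple_iff] at hss
  let U : Submodule (ZMod 2) (Additive (P ⧸ A)) :=
    AddSubgroup.toZModSubmodule 2 (Subgroup.toAddSubgroup (M.map (QuotientGroup.mk' A)))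
  have hU : ∀ x : P, Additive.ofMul (x : P ⧸ A) ∈ U ↔ x ∈ M := by
    intro x
    constructor
    · rintro ⟨m, hm, hmx⟩
      have h1 : (m : P ⧸ A) = (x : P ⧸ A) := hmx
      rw [QuotientGroup.eq] at h1
      have h2 := M.mul_mem hm (hAM h1)
      rwa [mul_inv_cancel_left] at h2
    · intro hx
      exact ⟨x, hx, rfl⟩
  obtain ⟨W, hWT, hUW⟩ := hss U (by
    rw [Module.End.mem_invtSubmodule]
    intro v hv
    obtain ⟨x, hx⟩ := QuotientGroup.mk_surjective v.toMul
    have h1 : v = Additive.ofMul (x : P ⧸ A) := by rw [hx]; rfl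
    rw [h1] at hv ⊢
    rw [Submodule.mem_comap, hT, hU]
    exact hMi x ((hU x).mp hv))
  rw [Module.End.mem_invtSubmodule] at hWT
  let N : Subgroup P :=
    { carrier := {x | Additive.ofMul (x : P ⧸ A) ∈ W}
      one_mem' := W.zero_mem
      mul_mem' := fun {a b} ha hb => W.add_mem ha hb
      inv_mem' := fun {a} ha => W.neg_mem ha }
  have hN : ∀ x, x ∈ N ↔ Additive.ofMul (x : P ⧸ A) ∈ W := fun x => Iff.rfl
  have hAN : A ≤ N := by
    intro a ha
    rw [hN]
    have : Additive.ofMul (a : P ⧸ A) = 0 := by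
      have h1 : (a : P ⧸ A) = 1 := (QuotientGroup.eq_one_iff a).mpr ha
      rw [h1]; rfl
    rw [this]
    exact W.zero_mem
  refine ⟨N, lt_of_le_of_ne hAN ?_, ?_, ?_⟩
  · rintro he
    apply hM
    rw [eq_top_iff]
    intro x _
    have h1 : Additive.ofMul (x : P ⧸ A) ∈ U ⊔ W := by rw [hUW.sup_eq_top]; trivial
    obtain ⟨u, hu, w, hw, huw⟩ := Submodule.mem_sup.mp h1
    obtain ⟨y, hy⟩ := QuotientGroup.mk_surjective w.toMul
    have h2 : w = Additive.ofMul (y : P ⧸ A) := by rw [hy]; rfl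
    rw [h2] at hw
    have h3 : y ∈ A := by rw [he]; exact (hN y).mpr hw
    have h4 : w = 0 := by
      rw [h2]
      have h1 : (y : P ⧸ A) = 1 := (QuotientGroup.eq_one_iff y).mpr h3
      rw [h1]; rfl
    rw [h4, add_zero] at huw
    rw [← hU, ← huw]
    exact hu
  · intro x hx
    rw [hN] at hx ⊢
    have := hWT hx
    rw [Submodule.mem_comap, hT] at this
    exact this
  · rintro x ⟨hxN, hxM⟩
    have h1 : Additive.ofMul (x : P ⧸ A) ∈ U ⊓ W := ⟨(hU x).mpr hxM, (hN x).mp hxN⟩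
    rw [hUW.inf_eq_bot, Submodule.mem_bot] at h1
    exact (QuotientGroup.eq_one_iff x).mp h1

theorem caseII (h : Reg P ξ) (hA : AD ξ A) (he : Ex A 2) (hC : ∀ x : P, (∀ a ∈ A, x * a = a * x) → x ∈ A)
    (hAtop : A ≠ ⊤) : ∀ x : P, (x * x) * (x * x) = 1 := by
  classical
  have hAn := hA.nm
  have hcE : ∀ {z : P}, z * z = 1 → ∀ g, cm z g = 1 := fun {z} hz g => cm_eq_one_iff.mpr (inv_comm h hz g)
  have f1 : ∀ a ∈ A, (a * a) * (a * a) = 1 := by
    intro a ha
    have := he.pow_eq a ha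
    calc (a * a) * (a * a) = a ^ (2 ^ 2) := by norm_num [pow_succ, mul_assoc]
      _ = 1 := this
  have f2 : ∀ a ∈ A, ∀ g, cm a g * cm a g = 1 := by
    intro a ha g
    rw [← hA.cm_mul ha ha]
    exact hcE (f1 a ha) g
  have f3 : ∀ a ∈ A, ∀ g k, cm a (g * k) = cm a g * cm a k := by
    intro a ha g k
    rw [hA.cm_mul_r ha, hcE (f2 a ha g), mul_one]
  have f4 : ∀ g : P, g * g ∈ A := by
    intro g
    apply hC
    intro a ha
    have : cm a (g * g) = 1 := by rw [f3 a ha, f2 a ha]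
    exact (cm_eq_one_iff.mp this).symm
  -- Step w
  have stepw : ∀ B : Subgroup P, A < B → (∀ x ∈ B, ξ x ∈ B) →
      (∀ W : Subgroup P, A ≤ W → W ≤ B → (∀ w ∈ W, ξ w ∈ W) → W = A ∨ W = B) →
      (∀ b ∈ B, (b * b) * (b * b) = 1) ∧
      ∀ y : P, (y * y) * (y * y) = 1 → ∀ x ∈ B, cm x y * cm x y = 1 := by
    intro B hAB hBi irr
    obtain ⟨i, hi1, hile, hi, star⟩ := star h hA he (le_refl 2) hC hAB hBi irr
    have hi' : i = 1 := by omega
    subst hi'
    have star' : ∀ b ∈ B, ∀ a ∈ A, cm a b = 1 → b ∈ A ∨ a * a = 1 := by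
      intro b hb a ha hab
      have := star b hb a ha (by rw [hab, one_pow])
      rwa [show 2 ^ (2 - 1) = 2 by norm_num, pow_two] at this
    have hBsq : ∀ b ∈ B, (b * b) * (b * b) = 1 := by
      intro b hb
      rcases star' b hb (b * b) (f4 b) (cm_eq_one_iff.mpr (by group)) with h1 | h1
      · exact f1 b h1
      · exact h1
    refine ⟨hBsq, ?_⟩
    intro y hy x0 hx0
    by_contra hw0
    have hcA : ∀ x ∈ B, cm x y ∈ A := by
      intro x hx
      -- P/A is commutative
      have h1 : cm x y = (x⁻¹ * x⁻¹) * (x * y⁻¹ * (x * y⁻¹)) * (y * y) := by unfold cm; group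
      rw [h1]
      exact A.mul_mem (A.mul_mem (f4 _) (f4 _)) (f4 _)
    have I1 : ∀ x ∈ B, cm (cm x y) x = cm x y * cm x y := by
      intro x hx
      have h1 : cm (x * x) y = 1 := hcE (hBsq x hx) y
      rw [cm_mul_left, ← mul_cm] at h1
      have h2 := f2 _ (hcA x hx) x
      have h3 : cm x y * cm x y * cm (cm x y) x = 1 := by
        rw [mul_assoc, hA.ab _ (hcA x hx) _ (hA.cm_mem (hcA x hx) x), ← mul_assoc]
        exact h1
      have h4 := f1 _ (hcA x hx)
      have h5 : cm (cm x y) x = (cm x y * cm x y)⁻¹ := eq_inv_of_mul_eq_one_right h3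
      rw [h5]
      exact sq_inv h4
    have I2 : ∀ x ∈ B, cm (cm x y) y = cm x y * cm x y := by
      intro x hx
      have h1 : cm x (y * y) = 1 := by
        rw [← cm_inv, hcE hy, inv_one]
      rw [cm_mul_right, ← mul_cm, ← mul_assoc] at h1
      have h4 := f1 _ (hcA x hx)
      have h5 : cm (cm x y) y = (cm x y * cm x y)⁻¹ := eq_inv_of_mul_eq_one_right h1
      rw [h5]
      exact sq_inv h4
    have K : ∀ b ∈ B, cm b y * cm b y = 1 → b ∈ A := by
      intro b hb hby
      have hw0A := hcA x0 hx0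
      have e1 : cm (x0 * b) y = cm x0 y * (cm (cm x0 y) b * cm b y) := by
        rw [cm_mul_left, ← mul_cm, mul_assoc]
      have hz : (cm (cm x0 y) b * cm b y) * (cm (cm x0 y) b * cm b y) = 1 := (E h).mul_mem (f2 _ hw0A b) hby
      have e2 := I1 (x0 * b) (B.mul_mem hx0 hb)
      have hzA : cm (cm x0 y) b * cm b y ∈ A := hA.El _ hz
      rw [e1, hA.cm_mul hw0A hzA, hcE hz, mul_one, f3 _ hw0A, I1 x0 hx0] at e2
      have e3 : cm x0 y * (cm (cm x0 y) b * cm b y) * (cm x0 y * (cm (cm x0 y) b * cm b y)) = cm x0 y * cm x0 y := by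
        obtain ⟨z, hzz⟩ : ∃ z, z = cm (cm x0 y) b * cm b y := ⟨_, rfl⟩
        rw [← hzz] at hz ⊢
        calc cm x0 y * z * (cm x0 y * z) = cm x0 y * (z * cm x0 y) * z := by group
          _ = cm x0 y * (cm x0 y * z) * z := by rw [inv_comm h hz]
          _ = cm x0 y * cm x0 y * (z * z) := by group
          _ = _ := by rw [hz, mul_one]
      rw [e3, mul_eq_left] at e2
      exact (star' b hb _ hw0A e2).resolve_right hw0
    -- the homomorphism
    have hcmB : ∀ x ∈ B, ∀ x' ∈ B, cm (x * x') y * cm (x * x') y = (cm x y * cm x y) * (cm x' y * cm x' y) := by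
      intro x hx x' hx'
      have hz := f2 _ (hcA x hx) x'
      rw [cm_mul_left, ← mul_cm]
      have c1 := hA.ab _ (hcA x hx) _ (hcA x' hx')
      obtain ⟨z, hzz⟩ : ∃ z, z = cm (cm x y) x' := ⟨_, rfl⟩
      rw [← hzz] at hz ⊢
      have c2 := inv_comm h hz
      calc cm x y * z * cm x' y * (cm x y * z * cm x' y) = cm x y * (z * (cm x' y * cm x y)) * z * cm x' y := by group
        _ = cm x y * ((cm x' y * cm x y) * z) * z * cm x' y := by rw [c2]
        _ = cm x y * (cm x' y * cm x y) * (z * z) * cm x' y := by group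
        _ = cm x y * (cm x y * cm x' y) * cm x' y := by rw [hz, mul_one, c1]
        _ = _ := by group
    obtain ⟨F, _, _, _, n, lam, ψ, hn2, hFn, hlam, hξ, hEn, _⟩ := coords h
    let τ : B →* E h :=
      { toFun := fun x => ⟨cm (x : P) y * cm (x : P) y, f1 _ (hcA x x.2)⟩
        map_one' := Subtype.ext (by
          have : cm (1 : P) y = 1 := AD.cm_one y
          change cm (1 : P) y * cm (1 : P) y = 1
          rw [this, mul_one])
        map_mul' := fun x x' => Subtype.ext (hcmB x x.2 x' x'.2) }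
    have hker : τ.ker = A.subgroupOf B := by
      ext x
      rw [MonoidHom.mem_ker, mem_subgroupOf]
      constructor
      · intro hx
        exact K x x.2 (congrArg Subtype.val hx)
      · intro hx
        apply Subtype.ext
        exact f2 _ hx y
    have hsurj : τ.range = ⊤ := by
      apply Subgroup.eq_top_of_le_card
      have h1 : Nat.card τ.range * Nat.card τ.ker = Nat.card B := by
        rw [← Subgroup.index_ker, mul_comm]
        exact Subgroup.card_mul_index _
      have h2 : Nat.card τ.ker = Nat.card A := by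
        rw [hker]
        exact Nat.card_congr (Subgroup.subgroupOfEquivOfLe hAB.le).toEquiv
      have h3 := card_mul_le h (by omega) hξ hA.inv hBi hAB
      rw [hEn]
      rw [← h1, h2] at h3
      exact Nat.le_of_mul_le_mul_right h3 Nat.card_pos
    have hall : ∀ a ∈ A, cm a y = a * a := by
      intro a ha
      have h1 : (⟨a * a, f1 a ha⟩ : E h) ∈ τ.range := by rw [hsurj]; trivial
      obtain ⟨x, hx⟩ := h1
      have h2 : cm (x : P) y * cm (x : P) y = a * a := congrArg Subtype.val hx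
      have hwA := hcA x x.2
      have h3 : ((cm (x : P) y)⁻¹ * a) * ((cm (x : P) y)⁻¹ * a) = 1 := by
        have c1 : (cm (x : P) y)⁻¹ * a = a * (cm (x : P) y)⁻¹ := hA.ab _ (A.inv_mem hwA) _ ha
        calc ((cm (x : P) y)⁻¹ * a) * ((cm (x : P) y)⁻¹ * a) = ((cm (x : P) y)⁻¹ * a) * (a * (cm (x : P) y)⁻¹) := by
              rw [← c1]
          _ = (cm (x : P) y)⁻¹ * (a * a) * (cm (x : P) y)⁻¹ := by group
          _ = 1 := by rw [← h2]; group
      have h4 : a = cm (x : P) y * ((cm (x : P) y)⁻¹ * a) := by group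
      rw [← h2]
      conv_lhs => rw [h4]
      rw [hA.cm_mul hwA (hA.El _ h3), hcE h3, mul_one, I2 x x.2]
    have hall' : ∀ a ∈ A, cm a (ξ y) = a * a := by
      intro a ha
      have h1 : ξ⁻¹ a ∈ A := by
        have := zpow_inv_of hA.inv (-1) ha
        rwa [zpow_neg_one] at this
      have h2 := congrArg ξ (hall _ h1)
      rw [map_cm, map_mul, MulAut.apply_inv_self] at h2
      exact h2
    have h5 : y * ξ y ∈ A := by
      apply hC
      intro a ha
      have : cm a (y * ξ y) = 1 := by rw [f3 a ha, hall a ha, hall' a ha, f1 a ha]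
      exact (cm_eq_one_iff.mp this).symm
    have h6 : y ∈ A := by
      apply fpf_sec h hA.inv
      have h4 : ξ y * y⁻¹ = y⁻¹ * (y * ξ y) * y * (y * y)⁻¹ := by group
      rw [h4]
      exact A.mul_mem (hA.conj_mem h5 y) (A.inv_mem (f4 y))
    apply hw0
    rw [← cm_inv, ← mul_inv_rev, f2 y h6, inv_one]
  -- Step M
  obtain ⟨M, ⟨hAM, hMi, hMsq⟩, hmax⟩ := (Set.toFinite {M : Subgroup P | A ≤ M ∧ (∀ x ∈ M, ξ x ∈ M) ∧
    ∀ m ∈ M, (m * m) * (m * m) = 1}).exists_maximal ⟨A, le_refl _, hA.inv, f1⟩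
  have hnorm : ∀ X : Subgroup P, A ≤ X → X.Normal := by
    intro X hX
    constructor
    intro x hx g
    have h1 : g * x * g⁻¹ = (g * x * (g * x)) * (x⁻¹ * g⁻¹ * (x⁻¹ * g⁻¹) ) * (g * x * (g * x)) * (x⁻¹ * (g⁻¹ * g⁻¹) * x) * x⁻¹ := by
      group
    have h2 : g * x * g⁻¹ = x * (x⁻¹ * g * (x⁻¹ * g)) * (g⁻¹ * ((x * x) * g)) * (g⁻¹ * g⁻¹) := by group
    rw [h2]
    refine X.mul_mem (X.mul_mem (X.mul_mem hx (hX (f4 _))) (hX ?_)) (hX (f4 _))
    rw [← mul_assoc]
    exact hA.conj_mem (f4 x) g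
  by_cases hMtop : M = ⊤
  · intro x
    exact hMsq x (by rw [hMtop]; trivial)
  exfalso
  obtain ⟨N, hAN, hNi, hNM⟩ := exists_compl_inv h A M hA.inv hMi hAM f4 hMtop
  have hNn := hnorm N hAN.le
  obtain ⟨B, hAB, hBY, hBi, irr⟩ := exists_min h A N hA.inv hNi hAN
  obtain ⟨hBsq, hBM⟩ := stepw B hAB hBi irr
  have hMn := hnorm M hAM
  have hsup : M ⊔ B ≤ M := by
    apply hmax ⟨hAM.trans le_sup_left, ?_, ?_⟩ le_sup_left
    · intro x hx
      have : (M ⊔ B).map ξ.toMonoidHom ≤ M ⊔ B := by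
        rw [Subgroup.map_sup]
        refine sup_le_sup ?_ ?_
        · rintro _ ⟨m, hm, rfl⟩
          exact hMi m hm
        · rintro _ ⟨m, hm, rfl⟩
          exact hBi m hm
      exact this ⟨x, hx, rfl⟩
    · intro x hx
      obtain ⟨m, hm, b, hb, rfl⟩ := Subgroup.mem_sup_of_normal_left.mp hx
      have h1 : m * b * (m * b) = m * m * (b * b) * (b⁻¹ * cm b m * b) := by unfold cm; group
      have h2 := hBM m (hMsq m hm) b hb
      have h3 : b⁻¹ * cm b m * b = cm b m := by
        rw [mul_assoc, inv_comm h h2]; group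
      rw [h1, h3]
      have h4 : m * m * (b * b) * cm b m ∈ E h := (E h).mul_mem ((E h).mul_mem (hMsq m hm) (hBsq b hb)) h2
      exact h4
  obtain ⟨b, hb, hbA⟩ := SetLike.exists_of_lt hAB
  exact hbA (hNM ⟨(hBY hb).1, hsup (le_sup_right (a := M) hb)⟩)

end

end H16.Suz
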