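import Cfsg.Agent.Lib.H62.PGXD
import Cfsg.Agent.S2202

set_option autoImplicit false
set_option linter.unusedSectionVars false
set_option linter.unusedVariables false
set_option linter.unusedSimpArgs false
set_option linter.style.haveILetI false

/-!
# S3322: an automorphism of `PSL₂(2ⁿ)` fixing the centralizer of an involution is inner
-/

namespace H16.DG

open Matrix Subgroup H45.SL2 H58.SL2Prod H17.FourGrp H17.QuatPair H50.PSLBasic H50.PSLField H62.PGX

local notation "SL2" F => SpecialLinearGroup (Fin 2) F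
local notation "PSL2" F => ProjectiveSpecialLinearGroup (Fin 2) F

theorem psi_inner {F : Type*} [Field F] [Fintype F] [CharP F 2] (g : GL (Fin 2) F) (σ : F ≃+* F)
    (s : SL2 F) (hs : s * s = 1) (hs1 : s ≠ 1)
    (h : ∀ c : SL2 F, c * s = s * c → psi g σ (pr c) = pr c) :
    ∃ c : PSL2 F, psi g σ = MulAut.conj c := by
  have two : (2 : F) = 0 := by
    have := CharP.cast_eq_zero F 2
    exact_mod_cast this
  have neg : ∀ x : F, -x = x := fun x => by linear_combination (-x) * two
  have htr := H2.CI.trace_of_invol hs hs1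
  have hdet := s.2
  rw [trace_fin_two] at htr
  rw [det_fin_two] at hdet
  set S : Matrix (Fin 2) (Fin 2) F := s.1 with hS
  have hσ : σ = 1 := by
    have hd : ∀ b : F, ((1 + b) • (1 : Matrix (Fin 2) (Fin 2) F) + b • S).det = 1 := by
      intro b
      rw [det_fin_two]
      simp only [Matrix.add_apply, Matrix.smul_apply, Matrix.one_apply, smul_eq_mul]
      norm_num
      linear_combination (b ^ 2) * hdet + (b + b ^ 2) * htr + (b + b ^ 2) * two
    let c : F → SL2 F := fun b => ⟨(1 + b) • (1 : Matrix (Fin 2) (Fin 2) F) + b • S, hd b⟩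
    have hc : ∀ b, c b * s = s * c b := by
      intro b
      apply Subtype.ext
      show ((1 + b) • (1 : Matrix (Fin 2) (Fin 2) F) + b • S) * S = S * ((1 + b) • (1 : Matrix (Fin 2) (Fin 2) F) + b • S)
      rw [Matrix.add_mul, Matrix.mul_add, Matrix.smul_mul, Matrix.smul_mul, Matrix.mul_smul, Matrix.mul_smul,
        Matrix.one_mul, Matrix.mul_one]
    have key : ∀ b : F, (1 + σ b) • g.1 + σ b • (g.1 * S.map σ) = (1 + b) • g.1 + b • (S * g.1) := by
      intro b
      have h1 := (psi_pr_iff g σ (c b) (c b)).1 (h _ (hc b))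
      have h2 : (c b).1.map σ = (1 + σ b) • (1 : Matrix (Fin 2) (Fin 2) F) + σ b • S.map σ := by
        ext i j
        show σ (((1 + b) • (1 : Matrix (Fin 2) (Fin 2) F) + b • S) i j) = _
        fin_cases i <;> fin_cases j <;> simp
      have h3 : (c b).1 = (1 + b) • (1 : Matrix (Fin 2) (Fin 2) F) + b • S := rfl
      rw [h2, h3] at h1
      have h4 : g.1 * ((1 + σ b) • (1 : Matrix (Fin 2) (Fin 2) F) + σ b • S.map σ) =
          ((1 + b) • (1 : Matrix (Fin 2) (Fin 2) F) + b • S) * g.1 := by
        rcases h1 with h1 | h1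
        · exact h1
        · rw [h1]
          ext i j
          exact neg _
      rw [Matrix.mul_add, Matrix.add_mul, Matrix.smul_mul, Matrix.smul_mul, Matrix.mul_smul, Matrix.mul_smul,
        Matrix.one_mul, Matrix.mul_one] at h4
      exact h4
    have k1 := key 1
    rw [map_one, one_smul, one_smul, add_left_cancel_iff] at k1
    ext b
    show σ b = b
    have k2 := key b
    rw [k1] at k2
    have k3 : (σ b - b) • ((1 + S) * g.1) = 0 := by
      rw [Matrix.add_mul, Matrix.one_mul, smul_add, sub_smul, sub_smul]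
      have : (1 + σ b) • g.1 + σ b • (S * g.1) - ((1 + b) • g.1 + b • (S * g.1)) = 0 := sub_eq_zero.2 k2
      rw [← this]
      module
    rcases smul_eq_zero.1 k3 with k4 | k4
    · exact sub_eq_zero.1 k4
    · exfalso
      have k5 : (1 + S) = 0 := by
        have := congrArg (fun M => M * (g⁻¹).1) k4
        simp only [Matrix.zero_mul] at this
        rw [Matrix.mul_assoc, ← Units.val_mul, mul_inv_cancel, Units.val_one, Matrix.mul_one] at this
        exact this
      apply hs1
      apply Subtype.ext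
      show S = 1
      have k6 : S = -1 := (neg_eq_of_add_eq_zero_right k5).symm
      rw [k6]
      ext i j
      exact neg _
  subst hσ
  rw [inner_iff]
  exact FiniteField.isSquare_of_char_two (ringChar.eq F 2) _

/-- an element fixing the centralizer of an involution in `L ≃* PSL₂(2ⁿ)` is in `L C(L)` -/
theorem inner_of_fix {X : Type*} [Group X] [Finite X] (L : Subgroup X) [hL : L.Normal] {F : Type*} [Field F]
    [Fintype F] [CharP F 2] (e : L ≃* PSL2 F) {t : X} (ht : t ∈ L) (ht2 : t * t = 1) (ht1 : t ≠ 1) {x : X}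
    (hx : ∀ c ∈ L, c * t = t * c → x * c = c * x) : ∃ l ∈ L, l⁻¹ * x ∈ centralizer (L : Set X) := by
  haveI : Fact (Nat.Prime 2) := ⟨Nat.prime_two⟩
  obtain ⟨g, σ, hg⟩ := H50.AutPSL2.aut_two (p := 2) (ph L e x)
  obtain ⟨s, hs⟩ := exists_pr (e ⟨t, ht⟩)
  have hpr : ∀ a b : SL2 F, pr a = pr b → a = b := by
    intro a b hab
    exact (H2.CI.slEquivPsl F).injective hab
  have hs2 : s * s = 1 := by
    apply hpr
    show pr s * pr s = 1
    rw [hs, ← map_mul]
    have : (⟨t, ht⟩ * ⟨t, ht⟩ : L) = 1 := Subtype.ext ht2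
    rw [this, map_one]
  have hs1 : s ≠ 1 := by
    rintro rfl
    have h1 : (⟨t, ht⟩ : L) = 1 := e.injective (by rw [← hs, map_one]; rfl)
    exact ht1 (congrArg Subtype.val h1)
  obtain ⟨c, hc⟩ := psi_inner g σ s hs2 hs1 (by
    intro c hc
    rw [← hg]
    obtain ⟨l, hl⟩ := e.surjective (pr c)
    rw [← hl, ph_fix]
    apply hx l l.2
    have h1 : e (l * ⟨t, ht⟩) = e (⟨t, ht⟩ * l) := by
      rw [map_mul, map_mul, hl, ← hs]
      show pr (c * s) = pr (s * c)
      rw [hc]
    exact congrArg Subtype.val (e.injective h1))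
  obtain ⟨l, rfl⟩ := e.surjective c
  refine ⟨l, l.2, ?_⟩
  rw [← ph_mem] at hc
  have h1 : ph L e ((l : X)⁻¹ * x) = 1 := by
    rw [map_mul, map_inv, hg, hc, inv_mul_cancel]
  rw [Subgroup.mem_centralizer_iff]
  intro y hy
  have h3 := ph_fix L e ((l : X)⁻¹ * x) ⟨y, hy⟩
  rw [h1] at h3
  exact (h3.1 rfl).symm

end H16.DG
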