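import Cfsg.Agent.Lib.H16.DG2
import Cfsg.Agent.Lib.H16.DG3
import Cfsg.Agent.Lib.H58.PFix
import Cfsg.Agent.Lib.H5.PLocal

set_option autoImplicit false
set_option linter.unusedVariables false

/-!
# S3322, case of two involutions in `A`: fusion
-/

open Subgroup

universe u

namespace H16.DG

variable {G : Type u} [Group G]

structure DD (H A : Subgroup G) : Prop where
  le : A ≤ H
  rel : A.relIndex H = 2
  sq : ∀ x ∈ H, x ∉ A → x * x = 1
  inv : ∀ x ∈ H, x ∉ A → ∀ a ∈ A, x * a * x⁻¹ = a⁻¹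
  comm : ∀ a ∈ A, ∀ b ∈ A, a * b = b * a
  cen : ∀ j ∈ A, j * j = 1 → j ≠ 1 → ∀ g, g ∈ H ↔ g * j = j * g
  ne : ∃ a ∈ A, a * a ≠ 1
  big : ∃ j1 ∈ A, ∃ j2 ∈ A, j1 * j1 = 1 ∧ j1 ≠ 1 ∧ j2 * j2 = 1 ∧ j2 ≠ 1 ∧ j1 ≠ j2

namespace DD

variable {H A : Subgroup G}

theorem mul_mem (h : DD H A) {x y : G} (hx : x ∈ H) (hxA : x ∉ A) (hy : y ∈ H) (hyA : y ∉ A) :
    x * y ∈ A := by
  have h1 : (A.subgroupOf H).index = 2 := h.rel
  have h2 := Subgroup.mul_mem_iff_of_index_two h1 (a := ⟨x, hx⟩) (b := ⟨y, hy⟩)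
  rw [mem_subgroupOf, mem_subgroupOf, mem_subgroupOf] at h2
  exact h2.2 ⟨fun h3 => absurd h3 hxA, fun h3 => absurd h3 hyA⟩

/-- conjugation preserves `H` as soon as it maps the involutions of `A` into `H` -/
theorem norm_of (h : DD H A) {g : G} (hg : ∀ j ∈ A, j * j = 1 → j ≠ 1 → g * j * g⁻¹ ∈ H) :
    ∀ x, x ∈ H ↔ g * x * g⁻¹ ∈ H := by
  obtain ⟨j, hj, hj2, hj1, hjA⟩ : ∃ j ∈ A, j * j = 1 ∧ j ≠ 1 ∧ g * j * g⁻¹ ∈ A := by
    obtain ⟨j1, hj1, j2, hj2, h11, h12, h21, h22, h3⟩ := h.big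
    by_cases h4 : g * j1 * g⁻¹ ∈ A
    · exact ⟨j1, hj1, h11, h12, h4⟩
    by_cases h5 : g * j2 * g⁻¹ ∈ A
    · exact ⟨j2, hj2, h21, h22, h5⟩
    refine ⟨j1 * j2, A.mul_mem hj1 hj2, ?_, ?_, ?_⟩
    · calc j1 * j2 * (j1 * j2) = j1 * (j2 * j1) * j2 := by group
        _ = j1 * (j1 * j2) * j2 := by rw [h.comm j2 hj2 j1 hj1]
        _ = (j1 * j1) * (j2 * j2) := by group
        _ = 1 := by rw [h11, h21, mul_one]
    · intro h6
      apply h3
      have h7 : j1 = j2⁻¹ := eq_inv_of_mul_eq_one_left h6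
      rw [h7]
      exact inv_eq_of_mul_eq_one_left h21
    · have := h.mul_mem (hg j1 hj1 h11 h12) h4 (hg j2 hj2 h21 h22) h5
      have e : g * j1 * g⁻¹ * (g * j2 * g⁻¹) = g * (j1 * j2) * g⁻¹ := by group
      rwa [e] at this
  intro x
  have hy2 : g * j * g⁻¹ * (g * j * g⁻¹) = 1 := by
    calc g * j * g⁻¹ * (g * j * g⁻¹) = g * (j * j) * g⁻¹ := by group
      _ = 1 := by rw [hj2]; group
  have hy1 : g * j * g⁻¹ ≠ 1 := by
    intro h1
    rw [mul_inv_eq_one, mul_eq_left] at h1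
    exact hj1 h1
  rw [h.cen _ hjA hy2 hy1 (g * x * g⁻¹), h.cen j hj hj2 hj1 x]
  constructor
  · intro h1
    calc g * x * g⁻¹ * (g * j * g⁻¹) = g * (x * j) * g⁻¹ := by group
      _ = g * (j * x) * g⁻¹ := by rw [h1]
      _ = g * j * g⁻¹ * (g * x * g⁻¹) := by group
  · intro h1
    have e1 : g * x * g⁻¹ * (g * j * g⁻¹) = g * (x * j) * g⁻¹ := by group
    have e2 : g * j * g⁻¹ * (g * x * g⁻¹) = g * (j * x) * g⁻¹ := by group
    rw [e1, e2] at h1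
    exact mul_left_cancel (mul_right_cancel h1)

/-- an element normalizing `H` maps the involutions of `A` into `A` -/
theorem invol_mem (h : DD H A) {g : G} (hg : ∀ x, x ∈ H ↔ g * x * g⁻¹ ∈ H) {j : G} (hj : j ∈ A)
    (hj2 : j * j = 1) (hj1 : j ≠ 1) : g * j * g⁻¹ ∈ A := by
  by_contra hcon
  have hyH : g * j * g⁻¹ ∈ H := (hg j).1 (h.le hj)
  obtain ⟨a, ha, ha2⟩ := h.ne
  apply ha2
  have h1 := h.inv _ hyH hcon a ha
  have h2 : g⁻¹ * a * g ∈ H := by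
    rw [hg]
    have e : g * (g⁻¹ * a * g) * g⁻¹ = a := by group
    rw [e]; exact h.le ha
  have h3 := (h.cen j hj hj2 hj1 _).1 h2
  have h4 : g * j * g⁻¹ * a * (g * j * g⁻¹)⁻¹ = a := by
    have e1 : g * j * g⁻¹ * a = a * (g * j * g⁻¹) := by
      calc g * j * g⁻¹ * a = g * (j * (g⁻¹ * a * g)) * g⁻¹ := by group
        _ = g * ((g⁻¹ * a * g) * j) * g⁻¹ := by rw [h3]
        _ = a * (g * j * g⁻¹) := by group
    rw [e1]; group
  rw [h4] at h1
  nth_rewrite 1 [h1]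
  exact inv_mul_cancel a

/-- elements of `H ∖ A` are not conjugate into `A` -/
theorem not_conj (h : DD H A) {x : G} (hx : x ∈ H) (hxA : x ∉ A) (g : G) : g * x * g⁻¹ ∉ A := by
  intro hcon
  have hx1 : x ≠ 1 := fun h1 => hxA (h1 ▸ A.one_mem)
  have hx2 := h.sq x hx hxA
  have hy2 : g * x * g⁻¹ * (g * x * g⁻¹) = 1 := by
    calc g * x * g⁻¹ * (g * x * g⁻¹) = g * (x * x) * g⁻¹ := by group
      _ = 1 := by rw [hx2]; group
  have hy1 : g * x * g⁻¹ ≠ 1 := by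
    intro h1
    rw [mul_inv_eq_one, mul_eq_left] at h1
    exact hx1 h1
  have h1 : ∀ j ∈ A, j * j = 1 → j ≠ 1 → g * j * g⁻¹ ∈ H := by
    intro j hj hj2 hj1
    rw [h.cen _ hcon hy2 hy1]
    have h3 : x * j = j * x := by
      have := h.inv x hx hxA j hj
      rw [inv_eq_of_mul_eq_one_left hj2, mul_inv_eq_iff_eq_mul] at this
      exact this
    calc g * j * g⁻¹ * (g * x * g⁻¹) = g * (j * x) * g⁻¹ := by group
      _ = g * (x * j) * g⁻¹ := by rw [h3]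
      _ = g * x * g⁻¹ * (g * j * g⁻¹) := by group
  have h2 := h.norm_of h1
  have h3 : ∀ y, y ∈ H ↔ g⁻¹ * y * g⁻¹⁻¹ ∈ H := by
    intro y
    rw [h2 (g⁻¹ * y * g⁻¹⁻¹)]
    have e : g * (g⁻¹ * y * g⁻¹⁻¹) * g⁻¹ = y := by group
    rw [e]
  have h4 := h.invol_mem h3 hcon hy2 hy1
  apply hxA
  have e : g⁻¹ * (g * x * g⁻¹) * g⁻¹⁻¹ = x := by group
  rwa [e] at h4

/-- the involutions of `A` with `1` -/
def V (h : DD H A) : Subgroup G where
  carrier := {a | a ∈ A ∧ a * a = 1}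
  one_mem' := ⟨A.one_mem, mul_one 1⟩
  mul_mem' := by
    rintro a b ⟨ha, ha2⟩ ⟨hb, hb2⟩
    refine ⟨A.mul_mem ha hb, ?_⟩
    calc a * b * (a * b) = a * (b * a) * b := by group
      _ = a * (a * b) * b := by rw [h.comm b hb a ha]
      _ = (a * a) * (b * b) := by group
      _ = 1 := by rw [ha2, hb2, mul_one]
  inv_mem' := by
    rintro a ⟨ha, ha2⟩
    refine ⟨A.inv_mem ha, ?_⟩
    rw [← mul_inv_rev, ha2, inv_one]

theorem mem_V (h : DD H A) {a : G} : a ∈ h.V ↔ a ∈ A ∧ a * a = 1 := Iff.rfl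

theorem V_pgroup (h : DD H A) : IsPGroup 2 h.V := by
  intro a
  refine ⟨1, ?_⟩
  apply Subtype.ext
  show (a : G) ^ (2 ^ 1) = 1
  rw [pow_one, pow_two]
  exact a.2.2

variable [Finite G]

/-- `H` has odd index -/
theorem index_odd (h : DD H A) : Odd H.index := by
  haveI : Fact (Nat.Prime 2) := ⟨Nat.prime_two⟩
  have hVH : h.V ≤ H := fun a ha => h.le ha.1
  have hV : IsPGroup 2 (h.V.subgroupOf H) := h.V_pgroup.comap_subtype
  obtain ⟨T, hT⟩ := hV.exists_le_sylow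
  set T' : Subgroup G := (T : Subgroup H).map H.subtype with hT'
  have hT'H : T' ≤ H := Subgroup.map_subtype_le _
  have hVT : h.V ≤ T' := by
    intro a ha
    exact ⟨⟨a, hVH ha⟩, hT (mem_subgroupOf.2 ha), rfl⟩
  have hT'p : IsPGroup 2 T' := T.2.map _
  obtain ⟨S, hS⟩ := hT'p.exists_le_sylow
  have hR : S.1 ⊓ normalizer (T' : Set G) ≤ H := by
    have hVn : ∀ g ∈ S.1 ⊓ normalizer (T' : Set G), ∀ k ∈ h.V, g * k * g⁻¹ ∈ h.V := by
      intro g hg k hk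
      have h1 : ∀ j ∈ A, j * j = 1 → j ≠ 1 → g * j * g⁻¹ ∈ H := by
        intro j hj hj2 _
        exact hT'H ((mem_normalizer_iff.1 hg.2 j).1 (hVT ⟨hj, hj2⟩))
      have h2 := h.norm_of h1
      refine ⟨?_, ?_⟩
      · by_cases hk1 : k = 1
        · rw [hk1, mul_one, mul_inv_cancel]; exact A.one_mem
        · exact h.invol_mem h2 hk.1 hk.2 hk1
      · calc g * k * g⁻¹ * (g * k * g⁻¹) = g * (k * k) * g⁻¹ := by group
          _ = 1 := by rw [hk.2]; group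
    have hVb : h.V ≠ ⊥ := by
      obtain ⟨j1, hj1, j2, hj2, h11, h12, h21, h22, h3⟩ := h.big
      intro hb
      have : j1 ∈ h.V := ⟨hj1, h11⟩
      rw [hb, mem_bot] at this
      exact h12 this
    obtain ⟨k, hk, hk1, hkc⟩ := H58.PFix.exists_centralized (P := S.1 ⊓ normalizer (T' : Set G)) (K := h.V)
      (S.2.to_le inf_le_left) h.V_pgroup hVb hVn
    intro g hg
    rw [h.cen k hk.1 hk.2 hk1]
    exact hkc g hg
  have hST : T' = S.1 := by
    by_contra hne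
    obtain ⟨x, hxS, hxT, hxN⟩ := H5.PLocal.exists_mem_normalizer_not_mem S.2 (lt_of_le_of_ne hS hne)
    apply hxT
    have h1 : IsPGroup 2 ((S.1 ⊓ normalizer (T' : Set G)).subgroupOf H) :=
      (S.2.to_le inf_le_left).comap_subtype
    have h2 : (T : Subgroup H) ≤ (S.1 ⊓ normalizer (T' : Set G)).subgroupOf H := by
      intro y hy
      rw [mem_subgroupOf]
      have hyT : (y : G) ∈ T' := ⟨y, hy, rfl⟩
      exact ⟨hS hyT, le_normalizer hyT⟩
    have h3 := T.3 h1 h2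
    have hxR : x ∈ S.1 ⊓ normalizer (T' : Set G) := ⟨hxS, hxN⟩
    have h4 : (⟨x, hR hxR⟩ : H) ∈ (T : Subgroup H) := by
      rw [← h3, mem_subgroupOf]; exact hxR
    exact ⟨_, h4, rfl⟩
  have h5 : S.1.index = S.1.relIndex H * H.index := by
    rw [Subgroup.relIndex_mul_index (hST ▸ hT'H)]
  have h6 : ¬ 2 ∣ S.1.index := S.not_dvd_index
  rw [← Nat.not_even_iff_odd, even_iff_two_dvd]
  intro h7
  exact h6 (h5 ▸ h7.mul_left _)

/-- the subgroup of index two -/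
theorem exists_G0 (h : DD H A) : ∃ G0 : Subgroup G, G0.Normal ∧ G0.index = 2 ∧ A ≤ G0 ∧
    ∀ x ∈ H, x ∉ A → x ∉ G0 := by
  apply exists_index_two H A h.le h.rel h.index_odd
  intro x hx hxA
  refine ⟨?_, h.not_conj hx hxA⟩
  exact H2.CI.orderOf_two_of (h.sq x hx hxA) (fun h1 => hxA (h1 ▸ A.one_mem))

end DD

end H16.DG
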