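import Cfsg.Agent.Lib.H16.DG4
import Cfsg.Agent.Lib.H60.PhK

set_option autoImplicit false
set_option linter.unusedVariables false

/-!
# S3322: extensions of `SL₂(2ⁿ) × A` of degree two
-/

open Subgroup Matrix

universe u

namespace H16.DG

theorem sq_of_comm {F : Type*} [Field F] [Fintype F] [CharP F 2] {s c : SpecialLinearGroup (Fin 2) F} (hs : s * s = 1)
    (hs1 : s ≠ 1) (hc : c * s = s * c) : c * c = 1 := by
  have two : (2 : F) = 0 := by
    have := CharP.cast_eq_zero F 2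
    exact_mod_cast this
  have htr := H2.CI.trace_of_invol hs hs1
  have hdet := s.2
  have hss : s.1 * s.1 = 1 := congrArg Subtype.val hs
  have h1 : s.1 * c.1 = c.1 * s.1 := (congrArg Subtype.val hc).symm
  obtain ⟨x, y, hxy⟩ := (H43.GL2Basic.commute_iff (H2.CI.not_isScal hs1) c.1).1 h1
  have hcd := c.2
  rw [trace_fin_two] at htr
  rw [det_fin_two] at hdet hcd
  have hcc : c.1 * c.1 = (x ^ 2 + y ^ 2) • (1 : Matrix (Fin 2) (Fin 2) F) := by
    rw [hxy]
    have e1 : (x • (1 : Matrix (Fin 2) (Fin 2) F) + y • s.1) * (x • (1 : Matrix (Fin 2) (Fin 2) F) + y • s.1) =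
        (x ^ 2) • (1 : Matrix (Fin 2) (Fin 2) F) + (2 * (x * y)) • s.1 + (y ^ 2) • (s.1 * s.1) := by
      simp only [add_mul, mul_add, smul_mul_assoc, mul_smul_comm, one_mul, mul_one, smul_smul]
      module
    rw [e1, hss, two, zero_mul, zero_smul, add_zero, add_smul]
  have hd : x ^ 2 + y ^ 2 = 1 := by
    rw [hxy] at hcd
    simp only [Matrix.add_apply, Matrix.smul_apply, Matrix.one_apply, smul_eq_mul] at hcd
    norm_num at hcd
    linear_combination hcd - (x * y) * htr - (y ^ 2) * hdet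
  apply Subtype.ext
  show c.1 * c.1 = 1
  rw [hcc, hd, one_smul]

theorem final {G : Type u} [Group G] [Finite G] (G0 : Subgroup G) [hG0 : G0.Normal] (hidx : G0.index = 2)
    {F : Type} [Field F] [Fintype F] [CharP F 2] (h4 : 4 ≤ Fintype.card F) {O : Type} [CommGroup O] [Finite O]
    (hO : Odd (Nat.card O)) (e : G0 ≃* SpecialLinearGroup (Fin 2) F × O) {x j : G} (hxG : x ∉ G0)
    (hj : j ∈ G0) (hj2 : j * j = 1) (hj1 : j ≠ 1)
    (hx : ∀ c ∈ G0, c * j = j * c → x * c * x⁻¹ = c⁻¹) :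
    ∃ (N : Subgroup G) (_ : N.Normal), (∃ m : ℕ, Odd m ∧ Nat.card N = 2 * m) ∧
      Nonempty (G ⧸ N ≃* ProjectiveSpecialLinearGroup (Fin 2) F) := by
  classical
  let f : SpecialLinearGroup (Fin 2) F →* G :=
    G0.subtype.comp (e.symm.toMonoidHom.comp (MonoidHom.inl (SpecialLinearGroup (Fin 2) F) O))
  have hf : ∀ s, f s = (e.symm (s, 1) : G) := fun s => rfl
  have hfi : Function.Injective f := by
    intro a b hab
    have h1 : e.symm (a, 1) = e.symm (b, 1) := Subtype.ext hab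
    exact congrArg Prod.fst (e.symm.injective h1)
  have hmem : ∀ g : G0, (e g).2 = 1 → (g : G) = f (e g).1 := by
    intro g hg
    rw [hf]
    have : e.symm ((e g).1, 1) = g := by rw [← hg]; exact e.symm_apply_apply g
    rw [this]
  -- `L = G0'`
  have hrange : f.range = (commutator G0).map G0.subtype := by
    apply le_antisymm
    · have h1 : (⊤ : Subgroup (SpecialLinearGroup (Fin 2) F)).map f ≤ (commutator G0).map G0.subtype := by
        rw [← H60.Ph.SL2_perfect h4, commutator_def, Subgroup.map_commutator, commutator_def,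
          Subgroup.map_commutator]
        apply Subgroup.commutator_mono
        · rintro _ ⟨s, -, rfl⟩
          exact ⟨e.symm (s, 1), trivial, rfl⟩
        · rintro _ ⟨s, -, rfl⟩
          exact ⟨e.symm (s, 1), trivial, rfl⟩
      rwa [← MonoidHom.range_eq_map] at h1
    · rintro _ ⟨g, hg, rfl⟩
      have h1 : commutator G0 ≤ ((MonoidHom.snd (SpecialLinearGroup (Fin 2) F) O).comp e.toMonoidHom).ker :=
        Abelianization.commutator_subset_ker _
      have h2 : (e g).2 = 1 := h1 hg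
      exact ⟨(e g).1, (hmem g h2).symm⟩
  haveI hL : f.range.Normal := by
    rw [hrange]
    exact ConjAct.normal_of_characteristic_of_normal
  set L := f.range with hLdef
  have hLG : L ≤ G0 := by
    rintro _ ⟨s, rfl⟩
    exact (e.symm (s, 1)).2
  let eL : SpecialLinearGroup (Fin 2) F ≃* L := MonoidHom.ofInjective hfi
  let eP : L ≃* ProjectiveSpecialLinearGroup (Fin 2) F := eL.symm.trans (H2.CI.slEquivPsl F)
  -- `j ∈ L`
  have hsnd : (e ⟨j, hj⟩).2 = 1 := by
    apply H2.CI.eq_one_of_odd hO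
    have : (⟨j, hj⟩ * ⟨j, hj⟩ : G0) = 1 := Subtype.ext hj2
    rw [← Prod.snd_mul, ← map_mul, this, map_one]
    rfl
  have hjL : j = f (e ⟨j, hj⟩).1 := hmem ⟨j, hj⟩ hsnd
  have hjL' : j ∈ L := ⟨_, hjL.symm⟩
  set s := (e ⟨j, hj⟩).1 with hs
  have hss : s * s = 1 := by
    apply hfi
    rw [map_mul, map_one, ← hjL, hj2]
  have hs1 : s ≠ 1 := by
    intro h
    rw [h, map_one] at hjL
    exact hj1 hjL
  have hsq : ∀ c ∈ L, c * j = j * c → c * c = 1 := by
    rintro _ ⟨c, rfl⟩ hc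
    rw [hjL, ← map_mul, ← map_mul] at hc
    rw [← map_mul, sq_of_comm hss hs1 (hfi hc), map_one]
  obtain ⟨l, hl, hlx⟩ := inner_of_fix L eP hjL' hj2 hj1 (x := x) (by
    intro c hc hcj
    have h1 := hx c (hLG hc) hcj
    rw [inv_eq_of_mul_eq_one_left (hsq c hc hcj), mul_inv_eq_iff_eq_mul] at h1
    exact h1)
  set C := centralizer (L : Set G) with hC
  haveI hCn : C.Normal := by
    rw [hC]; infer_instance
  have hLC : L ⊓ C = ⊥ := by
    rw [eq_bot_iff]
    rintro z ⟨⟨s', rfl⟩, hz2⟩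
    have h1 : s' ∈ center (SpecialLinearGroup (Fin 2) F) := by
      rw [Subgroup.mem_center_iff]
      intro y
      have h2 := (Subgroup.mem_centralizer_iff.1 hz2) (f y) ⟨y, rfl⟩
      rw [← map_mul, ← map_mul] at h2
      exact hfi h2
    rw [H25.SL2Card.center_SL2_char_two, mem_bot] at h1
    rw [h1, map_one]; exact Subgroup.one_mem _
  have hsup : ∀ g : G, ∃ a ∈ L, a⁻¹ * g ∈ C := by
    have h0 : ∀ g ∈ G0, ∃ a ∈ L, a⁻¹ * g ∈ C := by
      intro g hg
      refine ⟨f (e ⟨g, hg⟩).1, ⟨_, rfl⟩, ?_⟩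
      have h1 : (f (e ⟨g, hg⟩).1)⁻¹ * g = (e.symm (1, (e ⟨g, hg⟩).2) : G) := by
        rw [inv_mul_eq_iff_eq_mul, hf]
        have h2 : e.symm ((e ⟨g, hg⟩).1, 1) * e.symm (1, (e ⟨g, hg⟩).2) = ⟨g, hg⟩ := by
          rw [← map_mul, Prod.mk_mul_mk, mul_one, one_mul]
          exact e.symm_apply_apply _
        exact (congrArg Subtype.val h2).symm
      rw [h1, hC, Subgroup.mem_centralizer_iff]
      rintro _ ⟨y, rfl⟩
      rw [hf]
      have h2 : e.symm (y, 1) * e.symm (1, (e ⟨g, hg⟩).2) = e.symm (1, (e ⟨g, hg⟩).2) * e.symm (y, 1) := by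
        rw [← map_mul, ← map_mul, Prod.mk_mul_mk, Prod.mk_mul_mk]
        simp
      exact congrArg Subtype.val h2
    intro g
    by_cases hg : g ∈ G0
    · exact h0 g hg
    · have hgx : g * x⁻¹ ∈ G0 := by
        rw [Subgroup.mul_mem_iff_of_index_two hidx]
        exact ⟨fun h => absurd h hg, fun h => absurd (by simpa using G0.inv_mem h) hxG⟩
      obtain ⟨a, ha, hac⟩ := h0 _ hgx
      refine ⟨a * l, L.mul_mem ha hl, ?_⟩
      have h1 : (a * l)⁻¹ * g = (l⁻¹ * (a⁻¹ * (g * x⁻¹)) * l⁻¹⁻¹) * (l⁻¹ * x) := by group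
      rw [h1]
      exact C.mul_mem (hCn.conj_mem _ hac l⁻¹) hlx
  -- the quotient
  let q : L →* G ⧸ C := (QuotientGroup.mk' C).comp L.subtype
  have hq : Function.Bijective q := by
    constructor
    · rw [injective_iff_map_eq_one]
      intro a ha
      have h1 : (a : G) ∈ C := (QuotientGroup.eq_one_iff _).1 ha
      have h2 : (a : G) ∈ L ⊓ C := ⟨a.2, h1⟩
      rw [hLC, mem_bot] at h2
      exact Subtype.ext h2
    · intro y
      obtain ⟨g, rfl⟩ := QuotientGroup.mk'_surjective C y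
      obtain ⟨a, ha, hac⟩ := hsup g
      refine ⟨⟨a, ha⟩, ?_⟩
      exact QuotientGroup.eq.2 hac
  let eQ : L ≃* G ⧸ C := MulEquiv.ofBijective q hq
  refine ⟨C, hCn, ⟨Nat.card O, hO, ?_⟩, ⟨eQ.symm.trans eP⟩⟩
  have c1 : Nat.card G = Nat.card (G ⧸ C) * Nat.card C := Subgroup.card_eq_card_quotient_mul_card_subgroup C
  have c2 : Nat.card (G ⧸ C) = Nat.card (SpecialLinearGroup (Fin 2) F) :=
    Nat.card_congr (eQ.symm.trans eL.symm).toEquiv
  have c3 : Nat.card G0 * G0.index = Nat.card G := G0.card_mul_index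
  have c4 : Nat.card G0 = Nat.card (SpecialLinearGroup (Fin 2) F) * Nat.card O := by
    rw [Nat.card_congr e.toEquiv, Nat.card_prod]
  have c5 : 0 < Nat.card (SpecialLinearGroup (Fin 2) F) := Nat.card_pos
  rw [hidx, c4, c1, c2] at c3
  have : Nat.card (SpecialLinearGroup (Fin 2) F) * Nat.card C =
      Nat.card (SpecialLinearGroup (Fin 2) F) * (2 * Nat.card O) := by rw [← c3]; ring
  exact Nat.eq_of_mul_eq_mul_left c5 this

end H16.DG
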