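import Cfsg.Agent.Lib.H16.DG5
import Cfsg.Agent.Lib.H28.GW8C

set_option autoImplicit false
set_option linter.unusedVariables false

/-!
# S3322: the elementary abelian case and the case of at least two involutions in `A`
-/

open Subgroup Matrix

universe u

namespace H16.DG

variable {G : Type u} [Group G] [Finite G]

/-- an involution is conjugate into a subgroup of odd index -/
theorem conj_into {H : Subgroup G} (hodd : Odd H.index) {t : G} (ht : orderOf t = 2) :
    ∃ g : G, g * t * g⁻¹ ∈ H := by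
  haveI : Fact (Nat.Prime 2) := ⟨Nat.prime_two⟩
  have h1 : IsPGroup 2 (zpowers t) := IsPGroup.of_card (n := 1) (by rw [Nat.card_zpowers, ht, pow_one])
  have h2 : ¬ 2 ∣ Nat.card (G ⧸ H) := by
    intro h3
    exact (Nat.not_even_iff_odd.2 hodd) (even_iff_two_dvd.2 h3)
  obtain ⟨c, hc⟩ := h1.nonempty_fixed_point_of_prime_not_dvd_card (G ⧸ H) h2
  obtain ⟨g, rfl⟩ := QuotientGroup.mk_surjective c
  refine ⟨g⁻¹, ?_⟩
  have h3 : t • (QuotientGroup.mk g : G ⧸ H) = QuotientGroup.mk g := hc ⟨t, mem_zpowers t⟩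
  rw [MulAction.Quotient.smul_mk, eq_comm, QuotientGroup.eq] at h3
  simpa [mul_assoc] using h3

/-- odd order groups extended by a 2-group -/
theorem solvable_of_sylow_normal (P : Sylow 2 G) (hP : (P : Subgroup G).Normal) : Group.IsSolvable G := by
  haveI : Fact (Nat.Prime 2) := ⟨Nat.prime_two⟩
  rw [Group.isSolvable_iff_subgroup_quotient (P : Subgroup G)]
  constructor
  · have h1 := P.2.isNilpotent
    infer_instance
  · apply Cfsg.Agent.S0205.result
    rw [← Nat.not_even_iff_odd, even_iff_two_dvd]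
    exact P.not_dvd_index

/-- groups with abelian centralizers of involutions -/
theorem ci_struct (h : H2.CI.CI G) (hns : ¬ Group.IsSolvable G) {s t : G} (hs : orderOf s = 2)
    (ht : orderOf t = 2) (hst : s ≠ t) (hc : s * t = t * s) :
    ∃ (F : Type) (_ : Field F) (_ : Fintype F) (_ : CharP F 2) (O : Type) (_ : CommGroup O) (_ : Finite O),
      4 ≤ Fintype.card F ∧ Odd (Nat.card O) ∧ Nonempty (G ≃* SpecialLinearGroup (Fin 2) F × O) := by
  have heven : Even (Nat.card G) := by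
    rw [even_iff_two_dvd, ← hs]; exact orderOf_dvd_natCard s
  rcases Cfsg.Agent.S2202.result heven (fun t ht =>
    ⟨⟨fun a b => Subtype.ext (H2.CI.comm_of_mem h ht a.2 b.2)⟩⟩) with h1 | h1 | ⟨F, i1, i2, O, i3, i4, hch, hO, ⟨e⟩⟩
  · exact absurd (H28.GW8.solvable_of_cyclic default (h1 default)) hns
  · exact absurd (solvable_of_sylow_normal default (h1 default)) hns
  · exact ⟨F, i1, i2, hch, O, i3, i4, H2.CI.four_le hO e ht hs hst hc, hO, ⟨e⟩⟩

/-- the elementary abelian case -/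
theorem elem (H : Subgroup G) (hE : ∀ x ∈ H, x ^ 2 = 1) (h4 : 4 ∣ Nat.card H)
    (hC : ∀ j ∈ H, orderOf j = 2 → (∀ h ∈ H, h * j = j * h) → centralizer ({j} : Set G) = H)
    (hns : ¬ Group.IsSolvable G) :
    ∃ (N : Subgroup G) (_ : N.Normal), Odd (Nat.card N) ∧
      ∃ (F : Type) (_ : Field F) (_ : Fintype F), 3 < Fintype.card F ∧
        Nonempty (G ⧸ N ≃* ProjectiveSpecialLinearGroup (Fin 2) F) := by
  haveI : Fact (Nat.Prime 2) := ⟨Nat.prime_two⟩
  have hcomm : ∀ a ∈ H, ∀ b ∈ H, a * b = b * a := by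
    intro a ha b hb
    have h1 := hE a ha
    have h2 := hE b hb
    have h3 := hE _ (H.mul_mem ha hb)
    rw [pow_two] at h1 h2 h3
    have e1 : a⁻¹ = a := inv_eq_of_mul_eq_one_left h1
    have e2 : b⁻¹ = b := inv_eq_of_mul_eq_one_left h2
    have e3 : (a * b)⁻¹ = a * b := inv_eq_of_mul_eq_one_left h3
    rw [_root_.mul_inv_rev, e1, e2] at e3
    exact e3.symm
  have hcen : ∀ j ∈ H, orderOf j = 2 → ∀ g, g ∈ H ↔ g * j = j * g := by
    intro j hj hj2 g
    rw [← H2.CI.mem_cent, hC j hj hj2 (fun h hh => hcomm h hh j hj)]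
  have hord : ∀ x ∈ H, x ≠ 1 → orderOf x = 2 := fun x hx hx1 =>
    H2.CI.orderOf_two_of (by rw [← pow_two]; exact hE x hx) hx1
  -- two involutions
  obtain ⟨j1, hj1, j2, hj2, h11, h21, h12⟩ : ∃ j1 ∈ H, ∃ j2 ∈ H, j1 ≠ 1 ∧ j2 ≠ 1 ∧ j1 ≠ j2 := by
    have h5 : 3 < Nat.card H := lt_of_lt_of_le (by norm_num) (Nat.le_of_dvd Nat.card_pos h4)
    have h6 : 1 < Nat.card H := by omega
    haveI : Nontrivial H := Finite.one_lt_card_iff_nontrivial.1 h6
    obtain ⟨a, ha⟩ := exists_ne (1 : H)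
    by_contra hcon
    push Not at hcon
    have h7 : Nat.card H ≤ 2 := by
      have hs : Function.Surjective (fun i : Fin 2 => if i = 0 then (1 : H) else a) := by
        intro b
        by_cases hb : b = 1
        · exact ⟨0, by simp [hb]⟩
        · refine ⟨1, ?_⟩
          have := hcon a a.2 b b.2 (fun h => ha (Subtype.ext h)) (fun h => hb (Subtype.ext h))
          simp only [one_ne_zero, if_false]
          exact Subtype.ext this
      have := Nat.card_le_card_of_surjective _ hs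
      simpa using this
    omega
  have hHp : IsPGroup 2 H := fun a => ⟨1, Subtype.ext (by
    show (a : G) ^ (2 ^ 1) = 1
    rw [pow_one]; exact hE a a.2)⟩
  obtain ⟨S, hS⟩ := hHp.exists_le_sylow
  have hSH : S.1 = H := by
    apply le_antisymm _ hS
    have hSne : S.1 ≠ ⊥ := by
      intro hb
      rw [hb, le_bot_iff] at hS
      rw [hS, mem_bot] at hj1
      exact h11 hj1
    obtain ⟨z, hz, hz1, hzc⟩ := H58.PFix.exists_centralized (P := S.1) (K := S.1) S.2 S.2 hSne
      (fun g hg k hk => S.1.mul_mem (S.1.mul_mem hg hk) (S.1.inv_mem hg))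
    have hzH : z ∈ H := by
      rw [hcen j1 hj1 (hord j1 hj1 h11)]
      exact (hzc j1 (hS hj1)).symm
    intro g hg
    rw [hcen z hzH (hord z hzH hz1)]
    exact hzc g hg
  have hodd : Odd H.index := by
    rw [← hSH, ← Nat.not_even_iff_odd, even_iff_two_dvd]
    exact S.not_dvd_index
  have hCI : H2.CI.CI G := by
    intro t ht x y hx hy
    obtain ⟨g, hg⟩ := conj_into hodd ht
    have ht' : orderOf (g * t * g⁻¹) = 2 := by
      rw [← ht]; exact (SemiconjBy.orderOf_eq g (by show g * t = g * t * g⁻¹ * g; group)).symm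
    have key : ∀ x, x * t = t * x → g * x * g⁻¹ ∈ H := by
      intro x hx
      rw [hcen _ hg ht']
      calc g * x * g⁻¹ * (g * t * g⁻¹) = g * (x * t) * g⁻¹ := by group
        _ = g * (t * x) * g⁻¹ := by rw [hx]
        _ = g * t * g⁻¹ * (g * x * g⁻¹) := by group
    have h3 := hcomm _ (key x hx) _ (key y hy)
    have e1 : g * x * g⁻¹ * (g * y * g⁻¹) = g * (x * y) * g⁻¹ := by group
    have e2 : g * y * g⁻¹ * (g * x * g⁻¹) = g * (y * x) * g⁻¹ := by group
    rw [e1, e2] at h3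
    exact mul_left_cancel (mul_right_cancel h3)
  obtain ⟨F, _, _, _, O, _, _, hF, hO, ⟨e⟩⟩ := ci_struct hCI hns (hord j1 hj1 h11) (hord j2 hj2 h21) h12
    (hcomm j1 hj1 j2 hj2)
  let f : G →* SpecialLinearGroup (Fin 2) F := (MonoidHom.fst _ O).comp e.toMonoidHom
  have hf : Function.Surjective f := fun y => ⟨e.symm (y, 1), by
    show (e (e.symm (y, 1))).1 = y
    rw [MulEquiv.apply_symm_apply]⟩
  refine ⟨f.ker, inferInstance, ?_, F, inferInstance, inferInstance, by omega,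
    ⟨(QuotientGroup.quotientKerEquivOfSurjective f hf).trans (H2.CI.slEquivPsl F)⟩⟩
  have c1 := Subgroup.card_eq_card_quotient_mul_card_subgroup f.ker
  have c2 : Nat.card (G ⧸ f.ker) = Nat.card (SpecialLinearGroup (Fin 2) F) :=
    Nat.card_congr (QuotientGroup.quotientKerEquivOfSurjective f hf).toEquiv
  have c3 : Nat.card G = Nat.card (SpecialLinearGroup (Fin 2) F) * Nat.card O := by
    rw [Nat.card_congr e.toEquiv, Nat.card_prod]
  rw [c2, c3] at c1
  have c5 : 0 < Nat.card (SpecialLinearGroup (Fin 2) F) := Nat.card_pos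
  rw [← Nat.eq_of_mul_eq_mul_left c5 c1]
  exact hO

/-- the case of two involutions in `A` -/
theorem DD.concl {H A : Subgroup G} (h : DD H A) (hns : ¬ Group.IsSolvable G) :
    ∃ (N : Subgroup G) (_ : N.Normal), (∃ m : ℕ, Odd m ∧ Nat.card N = 2 * m) ∧
      ∃ (F : Type) (_ : Field F) (_ : Fintype F), 3 < Fintype.card F ∧
        Nonempty (G ⧸ N ≃* ProjectiveSpecialLinearGroup (Fin 2) F) := by
  haveI : Fact (Nat.Prime 2) := ⟨Nat.prime_two⟩
  obtain ⟨G0, hn, hidx, hAG, hout⟩ := h.exists_G0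
  have hHG : ∀ x ∈ H, x ∈ G0 → x ∈ A := by
    intro x hx hxG
    by_contra hxA
    exact hout x hx hxA hxG
  have hns0 : ¬ Group.IsSolvable G0 := by
    intro hs
    apply hns
    rw [Group.isSolvable_iff_subgroup_quotient G0]
    refine ⟨hs, ?_⟩
    have h1 : IsPGroup 2 (G ⧸ G0) := IsPGroup.of_card (n := 1) (by rw [pow_one]; exact hidx)
    have := h1.isNilpotent
    infer_instance
  have hCI : H2.CI.CI G0 := by
    intro t ht x y hx hy
    have ht' : orderOf (t : G) = 2 := by rw [Subgroup.orderOf_coe]; exact ht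
    obtain ⟨g, hg⟩ := conj_into h.index_odd ht'
    have htA : g * t * g⁻¹ ∈ A := hHG _ hg (hn.conj_mem _ t.2 g)
    have ht2 : (t : G) * t = 1 := by rw [← pow_two, ← ht']; exact pow_orderOf_eq_one _
    have hy2 : g * t * g⁻¹ * (g * t * g⁻¹) = 1 := by
      calc g * t * g⁻¹ * (g * t * g⁻¹) = g * (t * t) * g⁻¹ := by group
        _ = 1 := by rw [ht2]; group
    have hy1 : g * t * g⁻¹ ≠ 1 := by
      intro h1
      rw [mul_inv_eq_one, mul_eq_left] at h1
      rw [h1, orderOf_one] at ht'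
      omega
    have key : ∀ x : G0, x * t = t * x → g * x * g⁻¹ ∈ A := by
      intro x hx
      have hx' : (x : G) * t = t * x := congrArg Subtype.val hx
      apply hHG _ _ (hn.conj_mem _ x.2 g)
      rw [h.cen _ htA hy2 hy1]
      calc g * x * g⁻¹ * (g * t * g⁻¹) = g * (x * t) * g⁻¹ := by group
        _ = g * (t * x) * g⁻¹ := by rw [hx']
        _ = g * t * g⁻¹ * (g * x * g⁻¹) := by group
    have h3 := h.comm _ (key x hx) _ (key y hy)
    have e1 : g * x * g⁻¹ * (g * y * g⁻¹) = g * (x * y) * g⁻¹ := by group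
    have e2 : g * y * g⁻¹ * (g * x * g⁻¹) = g * (y * x) * g⁻¹ := by group
    rw [e1, e2] at h3
    exact Subtype.ext (mul_left_cancel (mul_right_cancel h3))
  obtain ⟨j1, hj1, j2, hj2, h11, h12, h21, h22, h3⟩ := h.big
  have o1 : orderOf (⟨j1, hAG hj1⟩ : G0) = 2 :=
    H2.CI.orderOf_two_of (Subtype.ext h11) (fun h' => h12 (congrArg Subtype.val h'))
  have o2 : orderOf (⟨j2, hAG hj2⟩ : G0) = 2 :=
    H2.CI.orderOf_two_of (Subtype.ext h21) (fun h' => h22 (congrArg Subtype.val h'))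
  obtain ⟨F, _, _, _, O, _, _, hF, hO, ⟨e⟩⟩ := ci_struct hCI hns0 o1 o2
    (fun h' => h3 (congrArg Subtype.val h')) (Subtype.ext (h.comm j1 hj1 j2 hj2))
  obtain ⟨x0, hx0, hx0A⟩ : ∃ x0 ∈ H, x0 ∉ A := by
    by_contra hcon
    push Not at hcon
    have h1 : A.relIndex H = 1 := Subgroup.relIndex_eq_one.2 hcon
    have := h.rel
    omega
  obtain ⟨N, hN, hm, hq⟩ := final G0 hidx hF hO e (hout x0 hx0 hx0A) (hAG hj1) h11 h12 (by
    intro c hc hcj
    exact h.inv x0 hx0 hx0A c (hHG c ((h.cen j1 hj1 h11 h12 c).2 hcj) hc))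
  exact ⟨N, hN, hm, F, inferInstance, inferInstance, by omega, hq⟩

/-- **S3322** if `H` is elementary abelian or `A` contains two involutions -/
theorem big (H A : Subgroup G) (hAH : A < H)
    (hD : ∀ x ∈ H, x ∉ A → x ^ 2 = 1) (h4 : 4 ∣ Nat.card H)
    (hC : ∀ j ∈ H, orderOf j = 2 → (∀ h ∈ H, h * j = j * h) → centralizer ({j} : Set G) = H)
    (hns : ¬ Group.IsSolvable G)
    (hbig : (∀ x ∈ H, x ^ 2 = 1) ∨ ∃ j1 ∈ A, ∃ j2 ∈ A, orderOf j1 = 2 ∧ orderOf j2 = 2 ∧ j1 ≠ j2) :
    ∃ (N : Subgroup G) (_ : N.Normal), (Odd (Nat.card N) ∨ ∃ m : ℕ, Odd m ∧ Nat.card N = 2 * m) ∧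
      ∃ (F : Type) (_ : Field F) (_ : Fintype F), 3 < Fintype.card F ∧
        (Nonempty (G ⧸ N ≃* ProjectiveSpecialLinearGroup (Fin 2) F) ∨
          Nonempty (G ⧸ N ≃* ProjGenLinGroup (Fin 2) F)) := by
  by_cases hE : ∀ x ∈ H, x ^ 2 = 1
  · obtain ⟨N, hN, hodd, F, i1, i2, hF, hq⟩ := elem H hE h4 hC hns
    exact ⟨N, hN, Or.inl hodd, F, i1, i2, hF, Or.inl hq⟩
  obtain ⟨j1, hj1, j2, hj2, o1, o2, h12⟩ := hbig.resolve_left hE
  obtain ⟨hrel, hinv⟩ := (red H A hAH hD).resolve_left hE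
  have hcomm := comm_of_D H A hAH hD
  have sq_of : ∀ j : G, orderOf j = 2 → j * j = 1 := fun j hj => by
    rw [← pow_two, ← hj]; exact pow_orderOf_eq_one _
  have ne_of : ∀ j : G, orderOf j = 2 → j ≠ 1 := fun j hj h1 => by
    rw [h1, orderOf_one] at hj; omega
  have hDD : DD H A := by
    refine ⟨hAH.le, hrel, fun x hx hxA => by rw [← pow_two]; exact hD x hx hxA, hinv, hcomm, ?_, ?_,
      ⟨j1, hj1, j2, hj2, sq_of _ o1, ne_of _ o1, sq_of _ o2, ne_of _ o2, h12⟩⟩
    · intro j hj hjj hj1 g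
      rw [← H2.CI.mem_cent, hC j (hAH.le hj) (H2.CI.orderOf_two_of hjj hj1)]
      intro x hx
      by_cases hxA : x ∈ A
      · exact hcomm x hxA j hj
      · have := hinv x hx hxA j hj
        rw [inv_eq_of_mul_eq_one_left hjj, mul_inv_eq_iff_eq_mul] at this
        exact this
    · by_contra hcon
      push Not at hcon
      apply hE
      intro x hx
      by_cases hxA : x ∈ A
      · rw [pow_two]; exact hcon x hxA
      · exact hD x hx hxA
  obtain ⟨N, hN, hm, F, i1, i2, hF, hq⟩ := hDD.concl hns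
  exact ⟨N, hN, Or.inr hm, F, i1, i2, hF, Or.inl hq⟩

end H16.DG
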