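import Mathlib

/-! Criteria for nonabelian Sylow 2-subgroups. -/

set_option autoImplicit false
set_option maxHeartbeats 400000

namespace H16.NA

/-- all Sylow 2-subgroups are abelian -/
abbrev AbS (G : Type*) [Group G] : Prop :=
  ∀ S : Sylow 2 G, IsMulCommutative ↥(S : Subgroup G)

variable {G : Type*} [Group G] [Finite G]

theorem comm_of_two_group (h : AbS G) (P : Subgroup G) (hP : IsPGroup 2 ↥P) {x y : G}
    (hx : x ∈ P) (hy : y ∈ P) : x * y = y * x := by
  obtain ⟨S, hS⟩ := hP.exists_le_sylow
  have h1 := h S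
  have h2 := h1.is_comm.comm ⟨x, hS hx⟩ ⟨y, hS hy⟩
  exact congrArg Subtype.val h2

theorem comm_of_norm (h : AbS G) (P : Subgroup G) (hP : IsPGroup 2 ↥P) {x : G} {k : ℕ}
    (hx : x ^ (2 ^ k) = 1) (hn : ∀ y ∈ P, x * y * x⁻¹ ∈ P) : ∀ y ∈ P, x * y = y * x := by
  intro y hy
  have hxN : x ∈ Subgroup.normalizer (P : Set G) := by
    have hinj : Function.Injective (fun z : ↥P => (⟨x * z.1 * x⁻¹, hn z.1 z.2⟩ : ↥P)) := by
      intro a b hab
      have h1 := congrArg Subtype.val hab
      apply Subtype.ext
      simpa using h1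
    have hsurj := Finite.surjective_of_injective hinj
    rw [Subgroup.mem_normalizer_iff]
    intro z
    constructor
    · intro hz
      exact hn z hz
    · intro hz
      obtain ⟨w, hw⟩ := hsurj ⟨_, hz⟩
      have h1 := congrArg Subtype.val hw
      have h2 : w.1 = z := by simpa using h1
      rw [← h2]
      exact w.2
  have hZ : IsPGroup 2 ↥(Subgroup.zpowers x) := by
    rintro ⟨g, hg⟩
    obtain ⟨n, rfl⟩ := Subgroup.mem_zpowers_iff.mp hg
    refine ⟨k, ?_⟩
    apply Subtype.ext
    show (x ^ n) ^ (2 ^ k) = 1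
    rw [← zpow_natCast, ← zpow_mul, mul_comm, zpow_mul, zpow_natCast, hx, one_zpow]
  have hle : Subgroup.zpowers x ≤ Subgroup.normalizer (P : Set G) := by
    rw [Subgroup.zpowers_le]
    exact hxN
  have hsup := IsPGroup.to_sup_of_normal_right' hZ hP hle
  exact comm_of_two_group h _ hsup (Subgroup.mem_sup_left (Subgroup.mem_zpowers x))
    (Subgroup.mem_sup_right hy)

/-- The commuting 2-elements `T`; `x` a 2-element normalizing `⟨T⟩`. -/
theorem comm_of_gen (h : AbS G) (T : Set G) (hT : ∀ a ∈ T, ∀ b ∈ T, a * b = b * a)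
    (hT2 : ∀ a ∈ T, ∃ k : ℕ, a ^ (2 ^ k) = 1) {x : G} {k : ℕ}
    (hx : x ^ (2 ^ k) = 1) (hn : ∀ y ∈ T, x * y * x⁻¹ ∈ Subgroup.closure T) :
    ∀ y ∈ T, x * y = y * x := by
  have hcomm : ∀ a ∈ Subgroup.closure T, ∀ b ∈ Subgroup.closure T, a * b = b * a := by
    have h1 : Subgroup.closure T ≤ Subgroup.centralizer (Subgroup.closure T : Set G) := by
      rw [Subgroup.closure_le]
      intro a ha
      rw [SetLike.mem_coe, Subgroup.mem_centralizer_iff]
      have h2 : Subgroup.closure T ≤ Subgroup.centralizer ({a} : Set G) := by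
        rw [Subgroup.closure_le]
        intro b hb
        rw [SetLike.mem_coe, Subgroup.mem_centralizer_singleton_iff]
        exact hT b hb a ha
      intro b hb
      have h3 := h2 hb
      rw [Subgroup.mem_centralizer_singleton_iff] at h3
      exact h3
    intro a ha b hb
    exact (Subgroup.mem_centralizer_iff.mp (h1 ha) b hb).symm
  have hP : IsPGroup 2 ↥(Subgroup.closure T) := by
    have h2 : ∀ g ∈ Subgroup.closure T, ∃ k : ℕ, g ^ (2 ^ k) = 1 := by
      intro g hg
      induction hg using Subgroup.closure_induction with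
      | mem a ha => exact hT2 a ha
      | one => exact ⟨0, by simp⟩
      | mul a b ha hb iha ihb =>
        obtain ⟨i, hi⟩ := iha
        obtain ⟨j, hj⟩ := ihb
        refine ⟨i + j, ?_⟩
        have hc : Commute a b := hcomm a ha b hb
        rw [hc.mul_pow, pow_add, pow_mul, hi, one_pow, one_mul, mul_comm, pow_mul, hj, one_pow]
      | inv a ha iha =>
        obtain ⟨i, hi⟩ := iha
        exact ⟨i, by rw [inv_pow, hi, inv_one]⟩
    rintro ⟨g, hg⟩
    obtain ⟨k, hk⟩ := h2 g hg
    exact ⟨k, Subtype.ext hk⟩
  intro y hy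
  refine comm_of_norm h (Subgroup.closure T) hP hx ?_ y (Subgroup.subset_closure hy)
  intro z hz
  have h3 : Subgroup.closure T ≤ (Subgroup.closure T).comap (MulAut.conj x).toMonoidHom := by
    rw [Subgroup.closure_le]
    intro z hz
    rw [SetLike.mem_coe, Subgroup.mem_comap]
    exact hn z hz
  exact h3 hz

/-- Dihedral / quaternion criterion. -/
theorem sq_of_inv (h : AbS G) {x y : G} {k l : ℕ} (hx : x ^ (2 ^ k) = 1) (hy : y ^ (2 ^ l) = 1)
    (hxy : x * y * x⁻¹ = y⁻¹) : y ^ 2 = 1 := by
  have h1 := comm_of_gen h {y} (by simp) (by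
    intro a ha
    rw [Set.mem_singleton_iff.mp ha]
    exact ⟨l, hy⟩) hx (by
    intro z hz
    rw [Set.mem_singleton_iff.mp hz, hxy]
    exact Subgroup.inv_mem _ (Subgroup.subset_closure (Set.mem_singleton y))) y
    (Set.mem_singleton y)
  have h2 : x * y * x⁻¹ = y := by rw [h1]; group
  rw [h2] at hxy
  rw [pow_two]
  nth_rewrite 1 [hxy]
  simp

/-- `x` normalizes `⟨y⟩`. -/
theorem comm_of_pow (h : AbS G) {x y : G} {k l n : ℕ} (hx : x ^ (2 ^ k) = 1) (hy : y ^ (2 ^ l) = 1)
    (hxy : x * y * x⁻¹ = y ^ n) : x * y = y * x := by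
  exact comm_of_gen h {y} (by simp) (by
    intro a ha
    rw [Set.mem_singleton_iff.mp ha]
    exact ⟨l, hy⟩) hx (by
    intro z hz
    rw [Set.mem_singleton_iff.mp hz, hxy]
    exact Subgroup.pow_mem _ (Subgroup.subset_closure (Set.mem_singleton y)) n) y
    (Set.mem_singleton y)

/-- `x` an involution, `y` a 2-element commuting with its conjugate `x y x⁻¹`. -/
theorem comm_of_conj_comm (h : AbS G) {x y : G} {l : ℕ} (hx : x ^ 2 = 1) (hy : y ^ (2 ^ l) = 1)
    (hc : (x * y * x⁻¹) * y = y * (x * y * x⁻¹)) : x * y = y * x := by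
  have hxi : x⁻¹ = x := inv_eq_of_mul_eq_one_left (by rw [← pow_two]; exact hx)
  have hcy : (x * y * x⁻¹) ^ (2 ^ l) = 1 := by
    rw [conj_pow, hy]; simp
  refine comm_of_gen h {y, x * y * x⁻¹} ?_ ?_ (k := 1) (by simpa using hx) ?_ y (by simp)
  · intro a ha b hb
    simp only [Set.mem_insert_iff, Set.mem_singleton_iff] at ha hb
    rcases ha with rfl | rfl <;> rcases hb with rfl | rfl
    · rfl
    · exact hc.symm
    · exact hc
    · rfl
  · intro a ha
    simp only [Set.mem_insert_iff, Set.mem_singleton_iff] at ha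
    rcases ha with rfl | rfl
    · exact ⟨l, hy⟩
    · exact ⟨l, hcy⟩
  · intro a ha
    simp only [Set.mem_insert_iff, Set.mem_singleton_iff] at ha
    rcases ha with rfl | rfl
    · exact Subgroup.subset_closure (by simp)
    · have h1 : x * (x * y * x⁻¹) * x⁻¹ = y := by
        rw [hxi]
        have h2 : x * x = 1 := by rw [← pow_two]; exact hx
        calc x * (x * y * x) * x = (x * x) * y * (x * x) := by group
          _ = y := by rw [h2]; simp
      rw [h1]
      exact Subgroup.subset_closure (by simp)

omit [Finite G] in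
theorem braid_of {a b : G} (ha : a * a = 1) (hb : b * b = 1) (hab : (a * b) ^ 3 = 1) :
    a * b * a = b * a * b := by
  have h1 : (a * b * a) * (b * a * b) = 1 := by
    rw [← hab]; simp only [pow_succ, pow_zero, one_mul, mul_assoc]
  have h2 : (b * a * b) * (b * a * b) = 1 := by
    calc (b * a * b) * (b * a * b) = b * a * (b * b) * a * b := by simp only [mul_assoc]
      _ = b * (a * a) * b := by rw [hb]; simp only [mul_assoc, mul_one]
      _ = 1 := by rw [ha, mul_one, hb]
  calc a * b * a = (a * b * a) * ((b * a * b) * (b * a * b)) := by rw [h2, mul_one]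
    _ = ((a * b * a) * (b * a * b)) * (b * a * b) := by simp only [mul_assoc]
    _ = b * a * b := by rw [h1, one_mul]

/-- The S₄ criterion: in a Coxeter A₃ configuration the two commuting generators coincide. -/
theorem eq_of_braid (h : AbS G) {a b c : G} (ha : a * a = 1) (hb : b * b = 1) (hc : c * c = 1)
    (hab : (a * b) ^ 3 = 1) (hbc : (b * c) ^ 3 = 1) (hac : a * c = c * a) : a = c := by
  have B1 : a * b * a = b * a * b := braid_of ha hb hab
  have B2 : b * c * b = c * b * c := braid_of hb hc hbc
  have hai : a⁻¹ = a := inv_eq_of_mul_eq_one_left ha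
  -- v = a c, w = b a c b
  have hvw : (a * c) * (b * a * c * b) = (b * a * c * b) * (a * c) := by
    calc (a * c) * (b * a * c * b) = (c * a) * (b * a * c * b) := by rw [hac]
      _ = c * (a * b * a) * c * b := by simp only [mul_assoc]
      _ = c * (b * a * b) * c * b := by rw [B1]
      _ = c * b * a * (b * c * b) := by simp only [mul_assoc]
      _ = c * b * a * (c * b * c) := by rw [B2]
      _ = c * b * (a * c) * b * c := by simp only [mul_assoc]
      _ = c * b * (c * a) * b * c := by rw [hac]
      _ = (c * b * c) * a * b * c := by simp only [mul_assoc]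
      _ = (b * c * b) * a * b * c := by rw [← B2]
      _ = b * c * (b * a * b) * c := by simp only [mul_assoc]
      _ = b * c * (a * b * a) * c := by rw [← B1]
      _ = b * (c * a) * b * a * c := by simp only [mul_assoc]
      _ = b * (a * c) * b * a * c := by rw [← hac]
      _ = (b * a * c * b) * (a * c) := by simp only [mul_assoc]
  have haw : a * (b * a * c * b) * a = (b * a * c * b) * (a * c) := by
    calc a * (b * a * c * b) * a = (a * b * a) * c * b * a := by simp only [mul_assoc]
      _ = (b * a * b) * c * b * a := by rw [B1]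
      _ = b * a * (b * c * b) * a := by simp only [mul_assoc]
      _ = b * a * (c * b * c) * a := by rw [B2]
      _ = b * a * c * b * (c * a) := by simp only [mul_assoc]
      _ = b * a * c * b * (a * c) := by rw [hac]
  have hv2 : (a * c) ^ 2 = 1 := by
    rw [pow_two]
    calc a * c * (a * c) = a * (c * a) * c := by simp only [mul_assoc]
      _ = a * (a * c) * c := by rw [hac]
      _ = (a * a) * (c * c) := by simp only [mul_assoc]
      _ = 1 := by rw [ha, hc, one_mul]
  have hw2 : (b * a * c * b) ^ 2 = 1 := by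
    have hbi : b⁻¹ = b := inv_eq_of_mul_eq_one_left hb
    have h1 : b * a * c * b = b * (a * c) * b⁻¹ := by rw [hbi]; simp only [mul_assoc]
    rw [h1, conj_pow, hv2]; simp
  have h1 := comm_of_gen h {a * c, b * a * c * b} (by
      intro x hx y hy
      simp only [Set.mem_insert_iff, Set.mem_singleton_iff] at hx hy
      rcases hx with rfl | rfl <;> rcases hy with rfl | rfl
      · rfl
      · exact hvw
      · exact hvw.symm
      · rfl) (by
      intro x hx
      simp only [Set.mem_insert_iff, Set.mem_singleton_iff] at hx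
      rcases hx with rfl | rfl
      · exact ⟨1, by simpa using hv2⟩
      · exact ⟨1, by simpa using hw2⟩) (x := a) (k := 1) (by rw [pow_one, pow_two]; exact ha) (by
      intro y hy
      simp only [Set.mem_insert_iff, Set.mem_singleton_iff] at hy
      rcases hy with rfl | rfl
      · have h2 : a * (a * c) * a⁻¹ = a * c := by
          rw [hai, mul_assoc, mul_assoc, ← hac, ← mul_assoc a a c, ha, one_mul]
        rw [h2]
        exact Subgroup.subset_closure (by simp)
      · rw [hai, haw]
        exact Subgroup.mul_mem _ (Subgroup.subset_closure (by simp))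
          (Subgroup.subset_closure (by simp))) (b * a * c * b) (by simp)
  have h2 : a * (b * a * c * b) * a = b * a * c * b := by
    rw [h1, mul_assoc, ha, mul_one]
  rw [haw] at h2
  have h3 : a * c = 1 := by
    have := mul_left_cancel (h2.trans (mul_one _).symm)
    exact this
  calc a = a * (c * c) := by rw [hc, mul_one]
    _ = (a * c) * c := by rw [mul_assoc]
    _ = c := by rw [h3, one_mul]

/-- Coxeter path of length four: all four generators coincide. -/
theorem path_four (h : AbS G) {a b c d : G} (ha : a * a = 1) (hb : b * b = 1) (hc : c * c = 1)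
    (hd : d * d = 1)
    (hab : (a * b) ^ 3 = 1) (hbc : (b * c) ^ 3 = 1) (hcd : (c * d) ^ 3 = 1)
    (hac : a * c = c * a) (hbd : b * d = d * b) (had : a * d = d * a) :
    a = b ∧ b = c ∧ c = d := by
  have h1 := eq_of_braid h ha hb hc hab hbc hac
  have h2 := eq_of_braid h hb hc hd hbc hcd hbd
  have h3 : a * b = b * a := by rw [h2]; exact had
  have h4 : a = b := by
    have h5 : (a * b) ^ 3 = a * b := by
      have hcom : Commute a b := h3
      rw [hcom.mul_pow, pow_succ, pow_two, ha, one_mul, pow_succ, pow_two, hb, one_mul]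
    rw [h5] at hab
    calc a = a * (b * b) := by rw [hb, mul_one]
      _ = (a * b) * b := by rw [mul_assoc]
      _ = b := by rw [hab, one_mul]
  refine ⟨h4, ?_, ?_⟩
  · rw [← h4]; exact h1
  · rw [← h1, h4]; exact h2

/-- abelian Sylow 2 is inherited by the source of an injective hom. -/
theorem AbS.of_injective {H : Type*} [Group H] (h : AbS G) (f : H →* G)
    (hf : Function.Injective f) : AbS H := by
  intro S
  have hP : IsPGroup 2 ↥((S : Subgroup H).map f) := S.isPGroup'.map f
  refine ⟨⟨?_⟩⟩
  rintro ⟨x, hx⟩ ⟨y, hy⟩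
  apply Subtype.ext
  apply hf
  show f (x * y) = f (y * x)
  rw [map_mul, map_mul]
  exact comm_of_two_group h _ hP (Subgroup.mem_map_of_mem f hx) (Subgroup.mem_map_of_mem f hy)

/-- abelian Sylow 2 is inherited by quotients. -/
theorem AbS.of_surjective {H : Type*} [Group H] (h : AbS G) (f : G →* H)
    (hf : Function.Surjective f) : AbS H := by
  intro S
  haveI : Finite H := Finite.of_surjective f hf
  obtain ⟨Q, hQ⟩ := Sylow.mapSurjective_surjective hf 2 S
  have hQ' : (S : Subgroup H) = (Q : Subgroup G).map f := by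
    rw [← hQ]; rfl
  refine ⟨⟨?_⟩⟩
  rintro ⟨x, hx⟩ ⟨y, hy⟩
  apply Subtype.ext
  show x * y = y * x
  rw [hQ'] at hx hy
  obtain ⟨x', hx', rfl⟩ := hx
  obtain ⟨y', hy', rfl⟩ := hy
  rw [← map_mul, ← map_mul, comm_of_two_group h (Q : Subgroup G) Q.isPGroup' hx' hy']

theorem AbS.of_equiv {H : Type*} [Group H] (h : AbS G) (e : H ≃* G) : AbS H :=
  h.of_injective e.toMonoidHom e.injective

end H16.NA
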