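import Cfsg.Agent.Lib.H16.NA5
import Cfsg.Agent.S3188
import Cfsg.Agent.Lib.H62.PGXE

/-! Simple groups with abelian Sylow 2-subgroups satisfying `BT`. -/

set_option autoImplicit false
set_option maxHeartbeats 400000

namespace H16.NA

open Subgroup

variable {G : Type*} [Group G] [Finite G]

theorem psl_of_BT (hs : IsSimpleGroup G) (hns : ¬ Group.IsSolvable G) (h : AbS G) (hb : BT G) :
    ∃ (F : Type) (_ : Field F) (_ : Fintype F),
      (((Fintype.card F % 8 = 3 ∨ Fintype.card F % 8 = 5) ∧ 5 ≤ Fintype.card F) ∨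
          (∃ n : ℕ, 2 ≤ n ∧ Fintype.card F = 2 ^ n)) ∧
      Nonempty (G ≃* Matrix.ProjectiveSpecialLinearGroup (Fin 2) F) := by
  obtain ⟨S⟩ : Nonempty (Sylow 2 G) := inferInstance
  rcases Cfsg.Agent.S3188.result S (h S) (fun t ht => cent_solvable h hb t ht) with h1 | h1
  · exact absurd h1 hns
  obtain ⟨F, iF, iF', hq, N, hN, ⟨e⟩, hcen⟩ := h1
  refine ⟨F, iF, iF', hq, ?_⟩
  have h4 : 3 < Nat.card F := by
    rw [Nat.card_eq_fintype_card]
    rcases hq with ⟨_, hq⟩ | ⟨n, hn, hq⟩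
    · omega
    · rw [hq]
      calc 3 < 2 ^ 2 := by norm_num
        _ ≤ 2 ^ n := Nat.pow_le_pow_right (by norm_num) hn
  have hsimp : IsSimpleGroup (Matrix.ProjectiveSpecialLinearGroup (Fin 2) F) :=
    Matrix.ProjectiveSpecialLinearGroup.rank_two_simple h4
  have hNnt : Nontrivial ↥N := e.toEquiv.nontrivial
  have hOn : (Cfsg.oddCore G).Normal := inferInstance
  have hO : Cfsg.oddCore G = ⊥ := by
    rcases hs.eq_bot_or_eq_top_of_normal _ hOn with h2 | h2
    · exact h2
    · exfalso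
      have hsub : Subsingleton (G ⧸ Cfsg.oddCore G) := by
        constructor
        intro a b
        obtain ⟨x, rfl⟩ := QuotientGroup.mk_surjective a
        obtain ⟨y, rfl⟩ := QuotientGroup.mk_surjective b
        rw [QuotientGroup.eq, h2]
        exact Subgroup.mem_top _
      exact not_subsingleton ↥N inferInstance
  have e1 : G ≃* G ⧸ Cfsg.oddCore G := MulEquiv.ofBijective (QuotientGroup.mk' (Cfsg.oddCore G)) (by
    constructor
    · rw [← MonoidHom.ker_eq_bot_iff, QuotientGroup.ker_mk', hO]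
    · exact QuotientGroup.mk'_surjective _)
  have hs' : IsSimpleGroup (G ⧸ Cfsg.oddCore G) := e1.symm.isSimpleGroup
  have hNt : N = ⊤ := by
    rcases hs'.eq_bot_or_eq_top_of_normal _ hN with h2 | h2
    · exfalso
      rw [h2] at hNnt
      exact not_nontrivial _ hNnt
    · exact h2
  refine ⟨e1.trans (MulEquiv.trans ?_ e)⟩
  rw [hNt]
  exact Subgroup.topEquiv.symm

theorem five_of_BT {F : Type} [Field F] [Fintype F] (h : AbS G) (hb : BT G)
    (hq : Fintype.card F % 8 = 3 ∨ Fintype.card F % 8 = 5) (h5 : 5 ≤ Fintype.card F)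
    (e : G ≃* Matrix.ProjectiveSpecialLinearGroup (Fin 2) F) : Fintype.card F = 5 := by
  by_contra hne
  set q := Fintype.card F with hqd
  have hodd : Odd q := by rw [Nat.odd_iff]; omega
  -- choose m with 2 m = q - ε, m = 2 m1, m1 odd
  obtain ⟨ε, m, m', m1, heps, hm, hm', hmm, hm1, hm1'⟩ : ∃ (ε : ℤ) (m m' m1 : ℕ),
      ((ε = 1 ∧ q % 4 = 1) ∨ (ε = -1 ∧ q % 4 = 3)) ∧ 2 * (m : ℤ) = q - ε ∧ 2 * (m' : ℤ) = q + ε ∧
      m = 2 * m1 ∧ Odd m1 ∧ m1 ≠ 1 := by
    rcases hq with hq | hq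
    · refine ⟨-1, (q + 1) / 2, (q - 1) / 2, (q + 1) / 4, Or.inr ⟨rfl, by omega⟩, by omega, by omega,
        by omega, ?_, by omega⟩
      rw [Nat.odd_iff]; omega
    · refine ⟨1, (q - 1) / 2, (q + 1) / 2, (q - 1) / 4, Or.inl ⟨rfl, by omega⟩, by omega, by omega,
        by omega, ?_, by omega⟩
      rw [Nat.odd_iff]; omega
  have hf := H62.PGX.fct_top e hqd.symm hodd (by omega) heps hm hm'
  -- an involution
  haveI : Fact (Nat.Prime 2) := ⟨Nat.prime_two⟩
  have hcard : 2 * Nat.card G = q * (q ^ 2 - 1) := by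
    have := hf.card
    rwa [Nat.card_congr Subgroup.topEquiv.toEquiv] at this
  have h2 : 2 ∣ Nat.card G := by
    have h8 : 4 ∣ q ^ 2 - 1 := by
      obtain ⟨k, hk⟩ := hodd
      refine ⟨k * (k + 1), ?_⟩
      rw [hk]
      have : (2 * k + 1) ^ 2 = 4 * (k * (k + 1)) + 1 := by ring
      omega
    obtain ⟨j, hj⟩ := h8
    rw [hj] at hcard
    have h9 : 2 * Nat.card G = 2 * (2 * (q * j)) := by rw [hcard]; ring
    have h10 : Nat.card G = 2 * (q * j) := by omega
    exact ⟨q * j, h10⟩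
  obtain ⟨t, ht⟩ := exists_prime_orderOf_dvd_card' 2 h2
  have htt : t * t = 1 := by rw [← pow_two, ← ht]; exact pow_orderOf_eq_one t
  have ht1 : t ≠ 1 := by
    intro h0
    rw [h0, orderOf_one] at ht
    omega
  obtain ⟨T, htT, hT⟩ := hf.tor t (Subgroup.mem_top t) htt ht1
  -- odd prime element in T
  obtain ⟨p, hp, hpm⟩ := Nat.exists_prime_and_dvd hm1'
  haveI : Fact p.Prime := ⟨hp⟩
  have hpT : p ∣ Nat.card ↥T := by
    rw [hT.card, hmm]
    exact dvd_mul_of_dvd_right hpm 2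
  obtain ⟨a, ha⟩ := exists_prime_orderOf_dvd_card' p hpT
  have hpodd : Odd p := by
    rcases hp.eq_two_or_odd' with h0 | h0
    · exfalso
      rw [h0] at hpm
      rw [Nat.odd_iff] at hm1
      omega
    · exact h0
  have ha' : orderOf a.1 = p := by rw [Subgroup.orderOf_coe]; exact ha
  have h1 := odd_normal h hb t ht a.1 (by rw [ha']; exact hpodd) (hT.fix a.1 a.2).symm (by
    intro c hc
    by_cases hcT : c ∈ T
    · left
      have hcyc := hT.cyc
      letI : CommGroup ↥T := IsCyclic.commGroup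
      have h2 : (⟨c, hcT⟩ : ↥T) * a = a * ⟨c, hcT⟩ := mul_comm _ _
      have h3 : c * a.1 = a.1 * c := congrArg Subtype.val h2
      rw [h3]; group
    · right
      exact (hT.out c (Subgroup.mem_top c) hc hcT).2 a.1 a.2)
  rw [h1, orderOf_one] at ha'
  exact hp.one_lt.ne ha'

end H16.NA
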