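import Cfsg.Prelude.Def_EvenType
import Cfsg.Agent.Lib.H16.NA1

/-! Nonabelian Sylow 2-subgroups of `A6`, `PSL4(3)`, `PSU4(3)`. -/

set_option autoImplicit false
set_option maxHeartbeats 400000
set_option maxRecDepth 100000

namespace H16.NA
open Cfsg Matrix

def xA6 : alternatingGroup (Fin 6) := ⟨Equiv.swap 0 2 * Equiv.swap 4 5, Equiv.Perm.mem_alternatingGroup.mpr (by decide +kernel)⟩
def yA6 : alternatingGroup (Fin 6) :=
  ⟨Equiv.swap 0 1 * Equiv.swap 1 2 * Equiv.swap 2 3 * Equiv.swap 4 5,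
    Equiv.Perm.mem_alternatingGroup.mpr (by decide +kernel)⟩

theorem a6_false {K : Type*} [Group K] [Finite K] (e : K ≃* alternatingGroup (Fin 6)) (h : AbS K) :
    False := by
  have h' : AbS (alternatingGroup (Fin 6)) := h.of_equiv e.symm
  have h1 := sq_of_inv h' (x := xA6) (y := yA6) (k := 1) (l := 2) (by decide +kernel)
    (by decide +kernel) (by decide +kernel)
  revert h1
  decide +kernel

/-- the matrices -/
def XL (F : Type*) [Field F] : Matrix (Fin 4) (Fin 4) F :=
  !![1, 0, 0, 0; 0, -1, 0, 0; 0, 0, -1, 0; 0, 0, 0, 1]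
def YL (F : Type*) [Field F] : Matrix (Fin 4) (Fin 4) F :=
  !![0, 1, 0, 0; -1, 0, 0, 0; 0, 0, 1, 0; 0, 0, 0, 1]

theorem det_XL (F : Type*) [Field F] : (XL F).det = 1 := by
  simp [XL, Matrix.det_succ_row_zero, Fin.sum_univ_succ, Fin.succAbove, Matrix.submatrix]

theorem det_YL (F : Type*) [Field F] : (YL F).det = 1 := by
  simp [YL, Matrix.det_succ_row_zero, Fin.sum_univ_succ, Fin.succAbove, Matrix.submatrix]

theorem psl4_false {K : Type*} [Group K] [Finite K] {F : Type} [Field F] [Fintype F]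
    (hF : Fintype.card F = 3) (e : K ≃* Matrix.ProjectiveSpecialLinearGroup (Fin 4) F) (h : AbS K) :
    False := by
  classical
  have h' : AbS (Matrix.ProjectiveSpecialLinearGroup (Fin 4) F) := h.of_equiv e.symm
  haveI : Finite (Matrix.ProjectiveSpecialLinearGroup (Fin 4) F) := Finite.of_equiv K e.toEquiv
  let X : Matrix.SpecialLinearGroup (Fin 4) F := ⟨XL F, det_XL F⟩
  let Y : Matrix.SpecialLinearGroup (Fin 4) F := ⟨YL F, det_YL F⟩
  have hX : X * X = 1 := by
    apply Subtype.ext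
    show XL F * XL F = 1
    ext i j
    fin_cases i <;> fin_cases j <;> simp [XL, Matrix.mul_apply, Fin.sum_univ_succ]
  have hY : (Y * Y) * (Y * Y) = 1 := by
    apply Subtype.ext
    show (YL F * YL F) * (YL F * YL F) = 1
    ext i j
    fin_cases i <;> fin_cases j <;> simp [YL, Matrix.mul_apply, Fin.sum_univ_succ]
  have hXY : (X * Y * X) * Y = 1 := by
    apply Subtype.ext
    show (XL F * YL F * XL F) * YL F = 1
    ext i j
    fin_cases i <;> fin_cases j <;> simp [XL, YL, Matrix.mul_apply, Fin.sum_univ_succ]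
  let π : Matrix.SpecialLinearGroup (Fin 4) F →* Matrix.ProjectiveSpecialLinearGroup (Fin 4) F :=
    QuotientGroup.mk' _
  have hXi : (π X)⁻¹ = π X := by
    apply inv_eq_of_mul_eq_one_left
    rw [← map_mul, hX, map_one]
  have h1 := sq_of_inv h' (x := π X) (y := π Y) (k := 1) (l := 2)
    (by rw [pow_one, pow_two, ← map_mul, hX, map_one])
    (by rw [show (2 ^ 2 : ℕ) = 2 + 2 by norm_num, pow_add, pow_two, ← map_mul, ← map_mul, hY, map_one])
    (by
      rw [hXi]
      apply eq_inv_of_mul_eq_one_left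
      rw [← map_mul, ← map_mul, ← map_mul, hXY, map_one])
  rw [pow_two, ← map_mul] at h1
  have h2 : Y * Y ∈ Subgroup.center (Matrix.SpecialLinearGroup (Fin 4) F) :=
    (QuotientGroup.eq_one_iff _).mp h1
  rw [Matrix.SpecialLinearGroup.mem_center_iff] at h2
  obtain ⟨r, _, hr⟩ := h2
  have h3 : (Matrix.scalar (Fin 4) r) 0 0 = (YL F * YL F) 0 0 := by rw [hr]; rfl
  have h4 : (Matrix.scalar (Fin 4) r) 2 2 = (YL F * YL F) 2 2 := by rw [hr]; rfl
  have h5 : r = -1 := by
    simpa [YL, Matrix.mul_apply, Fin.sum_univ_succ] using h3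
  have h6 : r = 1 := by
    simpa [YL, Matrix.mul_apply, Fin.sum_univ_succ] using h4
  rw [h6] at h5
  have h7 : (2 : F) = 0 := by
    have : (1 : F) + 1 = 0 := by nth_rewrite 1 [h5]; ring
    rw [← this]; norm_num
  haveI h8 : CharP F 3 := by
    haveI : Fact (Nat.Prime 3) := ⟨by norm_num⟩
    exact charP_of_card_eq_prime_pow (f := 1) (by rw [hF]; norm_num)
  have h9 : (3 : F) = 0 := by exact_mod_cast CharP.cast_eq_zero F 3
  have h10 : (1 : F) = 0 := by linear_combination h9 - h7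
  exact one_ne_zero h10


def WL (F : Type*) [Field F] : Matrix (Fin 4) (Fin 4) F :=
  !![0, 0, 1, 0; 0, 0, 0, 1; 1, 0, 0, 0; 0, 1, 0, 0]

theorem det_WL (F : Type*) [Field F] : (WL F).det = 1 := by
  simp [WL, Matrix.det_succ_row_zero, Fin.sum_univ_succ, Fin.succAbove, Matrix.submatrix]

theorem su_mem (F : Type*) [Field F] (A : Matrix.SpecialLinearGroup (Fin 4) F)
    (h : A.1 = XL F ∨ A.1 = YL F ∨ A.1 = WL F) : A ∈ SU 4 F 3 := by
  intro u v
  have hodd : ∀ a : F, (-a) ^ 3 = - a ^ 3 := fun a => by ring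
  show hermForm 4 F 3 (A.1.mulVec u) (A.1.mulVec v) = hermForm 4 F 3 u v
  rcases h with h | h | h <;> rw [h] <;>
    simp [hermForm, XL, YL, WL, Matrix.mulVec, dotProduct, Fin.sum_univ_succ, hodd] <;> ring

theorem psu4_false {K : Type*} [Group K] [Finite K] {F : Type} [Field F] [Fintype F]
    (hF : Fintype.card F = 9) (e : K ≃* PSU 4 F 3) (h : AbS K) :
    False := by
  classical
  have h' : AbS (PSU 4 F 3) := h.of_equiv e.symm
  haveI : Finite (PSU 4 F 3) := Finite.of_equiv K e.toEquiv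
  let X : ↥(SU 4 F 3) := ⟨⟨XL F, det_XL F⟩, su_mem F _ (Or.inl rfl)⟩
  let Y : ↥(SU 4 F 3) := ⟨⟨YL F, det_YL F⟩, su_mem F _ (Or.inr (Or.inl rfl))⟩
  let W : ↥(SU 4 F 3) := ⟨⟨WL F, det_WL F⟩, su_mem F _ (Or.inr (Or.inr rfl))⟩
  have hX : X * X = 1 := by
    apply Subtype.ext
    apply Subtype.ext
    show XL F * XL F = 1
    ext i j
    fin_cases i <;> fin_cases j <;> simp [XL, Matrix.mul_apply, Fin.sum_univ_succ]
  have hY : (Y * Y) * (Y * Y) = 1 := by
    apply Subtype.ext
    apply Subtype.ext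
    show (YL F * YL F) * (YL F * YL F) = 1
    ext i j
    fin_cases i <;> fin_cases j <;> simp [YL, Matrix.mul_apply, Fin.sum_univ_succ]
  have hXY : (X * Y * X) * Y = 1 := by
    apply Subtype.ext
    apply Subtype.ext
    show (XL F * YL F * XL F) * YL F = 1
    ext i j
    fin_cases i <;> fin_cases j <;> simp [XL, YL, Matrix.mul_apply, Fin.sum_univ_succ]
  let π : ↥(SU 4 F 3) →* PSU 4 F 3 := QuotientGroup.mk' _
  have hXi : (π X)⁻¹ = π X := by
    apply inv_eq_of_mul_eq_one_left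
    rw [← map_mul, hX, map_one]
  have h1 := sq_of_inv h' (x := π X) (y := π Y) (k := 1) (l := 2)
    (by rw [pow_one, pow_two, ← map_mul, hX, map_one])
    (by rw [show (2 ^ 2 : ℕ) = 2 + 2 by norm_num, pow_add, pow_two, ← map_mul, ← map_mul, hY, map_one])
    (by
      rw [hXi]
      apply eq_inv_of_mul_eq_one_left
      rw [← map_mul, ← map_mul, ← map_mul, hXY, map_one])
  rw [pow_two, ← map_mul] at h1
  have h2 : Y * Y ∈ Subgroup.center ↥(SU 4 F 3) := (QuotientGroup.eq_one_iff _).mp h1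
  have h3 := Subgroup.mem_center_iff.mp h2 W
  have h4 : (WL F * (YL F * YL F)) 0 2 = ((YL F * YL F) * WL F) 0 2 :=
    congrArg (fun A : ↥(SU 4 F 3) => A.1.1 0 2) h3
  have h5 : (1 : F) = -1 := by
    simpa [WL, YL, Matrix.mul_apply, Fin.sum_univ_succ] using h4
  have h7 : (2 : F) = 0 := by
    have : (1 : F) + 1 = 0 := by nth_rewrite 1 [h5]; ring
    rw [← this]; norm_num
  haveI h8 : CharP F 3 := by
    haveI : Fact (Nat.Prime 3) := ⟨by norm_num⟩
    exact charP_of_card_eq_prime_pow (f := 2) (by rw [hF]; norm_num)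
  have h9 : (3 : F) = 0 := by exact_mod_cast CharP.cast_eq_zero F 3
  have h10 : (1 : F) = 0 := by linear_combination h9 - h7
  exact one_ne_zero h10

end H16.NA
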