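import Cfsg.Agent.Lib.H16.NA3
import Cfsg.Agent.Lib.H16.NA4

/-! Nonabelian Sylow 2-subgroups of `M11`, `M23`, `M24`, `PSL3(3)`, `PSU3(3)`. -/

set_option autoImplicit false
set_option maxHeartbeats 400000
set_option maxRecDepth 100000

namespace H16.NA
open H40.PermCode H40.MathieuBase Matrix Cfsg

theorem okx11 : okc 5 24 0xb9dcf99170a546c8a846b20b26a420 0xb9dcf99170a546c8a846b20b26a420 = true := by
  decide +kernel
theorem oky11 : okc 5 24 0x9d1cfb91503d5a22ad92b222618520 0x99dd6ba0b0a55a954426791721b040 = true := by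
  decide +kernel

theorem m11_false {K : Type*} [Group K] [Finite K] (hK : Cfsg.Spor.IsoM11 K) (h : AbS K) : False := by
  obtain ⟨e⟩ := hK
  have h' : AbS ↥Cfsg.Spor.M11 := h.of_equiv e.symm
  refine false_of_codes h' (x := ofCode E24 5 _ _ okx11) (y := ofCode E24 5 _ _ oky11) ?_ ?_
    (rep_ofCode _) (rep_ofCode _) (rep_ofCode_inv _) ?_ ?_ ?_ ?_
  · refine H40.OutM12.mem11_of_rep (rep_ofCode okx11) ?_ ?_ ?_ <;> decide +kernel
  · refine H40.OutM12.mem11_of_rep (rep_ofCode oky11) ?_ ?_ ?_ <;> decide +kernel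
  all_goals decide +kernel

theorem m23_false {K : Type*} [Group K] [Finite K] (hK : Cfsg.Spor.IsoM23 K) (h : AbS K) : False := by
  obtain ⟨e⟩ := hK
  have h' : AbS ↥Cfsg.Spor.M23 := h.of_equiv e.symm
  have hle : Cfsg.Spor.M22 ≤ Cfsg.Spor.M23 := inf_le_left
  exact m22_false ⟨MulEquiv.refl _⟩ (h'.of_injective (Subgroup.inclusion hle)
    (Subgroup.inclusion_injective hle))

theorem m24_false {K : Type*} [Group K] [Finite K] (hK : Cfsg.Spor.IsoM24 K) (h : AbS K) : False := by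
  obtain ⟨e⟩ := hK
  have h' : AbS ↥Cfsg.M24 := h.of_equiv e.symm
  have hle : Cfsg.Spor.M22 ≤ Cfsg.M24 := inf_le_left.trans inf_le_left
  exact m22_false ⟨MulEquiv.refl _⟩ (h'.of_injective (Subgroup.inclusion hle)
    (Subgroup.inclusion_injective hle))

/-- the matrices -/
def XM (F : Type*) [Field F] : Matrix (Fin 3) (Fin 3) F :=
  !![1, 0, 0; 0, -1, 0; 0, 0, -1]
def YM (F : Type*) [Field F] : Matrix (Fin 3) (Fin 3) F :=
  !![0, 1, 0; -1, 0, 0; 0, 0, 1]
def WM (F : Type*) [Field F] : Matrix (Fin 3) (Fin 3) F :=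
  !![0, 1, 0; 0, 0, 1; 1, 0, 0]

theorem det_XM (F : Type*) [Field F] : (XM F).det = 1 := by
  simp [XM, Matrix.det_fin_three]

theorem det_YM (F : Type*) [Field F] : (YM F).det = 1 := by
  simp [YM, Matrix.det_fin_three]

theorem det_WM (F : Type*) [Field F] : (WM F).det = 1 := by
  simp [WM, Matrix.det_fin_three]

theorem two_ne (F : Type*) [Field F] [Fintype F] {f : ℕ} (hF : Fintype.card F = 3 ^ f) : (2 : F) ≠ 0 := by
  intro h7
  haveI h8 : CharP F 3 := by
    haveI : Fact (Nat.Prime 3) := ⟨by norm_num⟩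
    exact charP_of_card_eq_prime_pow (f := f) hF
  have h9 : (3 : F) = 0 := by exact_mod_cast CharP.cast_eq_zero F 3
  have h10 : (1 : F) = 0 := by linear_combination h9 - h7
  exact one_ne_zero h10

theorem psl3_false {K : Type*} [Group K] [Finite K] {F : Type} [Field F] [Fintype F]
    (hF : Fintype.card F = 3) (e : K ≃* Matrix.ProjectiveSpecialLinearGroup (Fin 3) F) (h : AbS K) :
    False := by
  classical
  have h' : AbS (Matrix.ProjectiveSpecialLinearGroup (Fin 3) F) := h.of_equiv e.symm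
  haveI : Finite (Matrix.ProjectiveSpecialLinearGroup (Fin 3) F) := Finite.of_equiv K e.toEquiv
  let X : Matrix.SpecialLinearGroup (Fin 3) F := ⟨XM F, det_XM F⟩
  let Y : Matrix.SpecialLinearGroup (Fin 3) F := ⟨YM F, det_YM F⟩
  have hX : X * X = 1 := by
    apply Subtype.ext
    show XM F * XM F = 1
    ext i j
    fin_cases i <;> fin_cases j <;> simp [XM, Matrix.mul_apply, Fin.sum_univ_succ]
  have hY : (Y * Y) * (Y * Y) = 1 := by
    apply Subtype.ext
    show (YM F * YM F) * (YM F * YM F) = 1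
    ext i j
    fin_cases i <;> fin_cases j <;> simp [YM, Matrix.mul_apply, Fin.sum_univ_succ]
  have hXY : (X * Y * X) * Y = 1 := by
    apply Subtype.ext
    show (XM F * YM F * XM F) * YM F = 1
    ext i j
    fin_cases i <;> fin_cases j <;> simp [XM, YM, Matrix.mul_apply, Fin.sum_univ_succ]
  let π : Matrix.SpecialLinearGroup (Fin 3) F →* Matrix.ProjectiveSpecialLinearGroup (Fin 3) F :=
    QuotientGroup.mk' _
  have hXi : (π X)⁻¹ = π X := by
    apply inv_eq_of_mul_eq_one_left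
    rw [← map_mul, hX, map_one]
  have h1 := sq_of_inv h' (x := π X) (y := π Y) (k := 1) (l := 2)
    (by rw [pow_one, pow_two, ← map_mul, hX, map_one])
    (by rw [show (2 ^ 2 : ℕ) = 2 + 2 by norm_num, pow_add, pow_two, ← map_mul, ← map_mul, hY, map_one])
    (by
      rw [hXi]
      apply eq_inv_of_mul_eq_one_left
      rw [← map_mul, ← map_mul, ← map_mul, hXY, map_one])
  rw [pow_two, ← map_mul] at h1
  have h2 : Y * Y ∈ Subgroup.center (Matrix.SpecialLinearGroup (Fin 3) F) :=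
    (QuotientGroup.eq_one_iff _).mp h1
  rw [Matrix.SpecialLinearGroup.mem_center_iff] at h2
  obtain ⟨r, _, hr⟩ := h2
  have h3 : (Matrix.scalar (Fin 3) r) 0 0 = (YM F * YM F) 0 0 := by rw [hr]; rfl
  have h4 : (Matrix.scalar (Fin 3) r) 2 2 = (YM F * YM F) 2 2 := by rw [hr]; rfl
  have h5 : r = -1 := by
    simpa [YM, Matrix.mul_apply, Fin.sum_univ_succ] using h3
  have h6 : r = 1 := by
    simpa [YM, Matrix.mul_apply, Fin.sum_univ_succ] using h4
  rw [h6] at h5
  refine two_ne F (f := 1) (by rw [hF]; norm_num) ?_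
  have : (1 : F) + 1 = 0 := by nth_rewrite 1 [h5]; ring
  rw [← this]; norm_num

theorem su3_mem (F : Type*) [Field F] (A : Matrix.SpecialLinearGroup (Fin 3) F)
    (h : A.1 = XM F ∨ A.1 = YM F ∨ A.1 = WM F) : A ∈ SU 3 F 3 := by
  intro u v
  have hodd : ∀ a : F, (-a) ^ 3 = - a ^ 3 := fun a => by ring
  show hermForm 3 F 3 (A.1.mulVec u) (A.1.mulVec v) = hermForm 3 F 3 u v
  rcases h with h | h | h <;> rw [h] <;>
    simp [hermForm, XM, YM, WM, Matrix.mulVec, dotProduct, Fin.sum_univ_succ, hodd] <;> ring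

theorem psu3_false {K : Type*} [Group K] [Finite K] {F : Type} [Field F] [Fintype F]
    (hF : Fintype.card F = 9) (e : K ≃* PSU 3 F 3) (h : AbS K) :
    False := by
  classical
  have h' : AbS (PSU 3 F 3) := h.of_equiv e.symm
  haveI : Finite (PSU 3 F 3) := Finite.of_equiv K e.toEquiv
  let X : ↥(SU 3 F 3) := ⟨⟨XM F, det_XM F⟩, su3_mem F _ (Or.inl rfl)⟩
  let Y : ↥(SU 3 F 3) := ⟨⟨YM F, det_YM F⟩, su3_mem F _ (Or.inr (Or.inl rfl))⟩
  let W : ↥(SU 3 F 3) := ⟨⟨WM F, det_WM F⟩, su3_mem F _ (Or.inr (Or.inr rfl))⟩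
  have hX : X * X = 1 := by
    apply Subtype.ext
    apply Subtype.ext
    show XM F * XM F = 1
    ext i j
    fin_cases i <;> fin_cases j <;> simp [XM, Matrix.mul_apply, Fin.sum_univ_succ]
  have hY : (Y * Y) * (Y * Y) = 1 := by
    apply Subtype.ext
    apply Subtype.ext
    show (YM F * YM F) * (YM F * YM F) = 1
    ext i j
    fin_cases i <;> fin_cases j <;> simp [YM, Matrix.mul_apply, Fin.sum_univ_succ]
  have hXY : (X * Y * X) * Y = 1 := by
    apply Subtype.ext
    apply Subtype.ext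
    show (XM F * YM F * XM F) * YM F = 1
    ext i j
    fin_cases i <;> fin_cases j <;> simp [XM, YM, Matrix.mul_apply, Fin.sum_univ_succ]
  let π : ↥(SU 3 F 3) →* PSU 3 F 3 := QuotientGroup.mk' _
  have hXi : (π X)⁻¹ = π X := by
    apply inv_eq_of_mul_eq_one_left
    rw [← map_mul, hX, map_one]
  have h1 := sq_of_inv h' (x := π X) (y := π Y) (k := 1) (l := 2)
    (by rw [pow_one, pow_two, ← map_mul, hX, map_one])
    (by rw [show (2 ^ 2 : ℕ) = 2 + 2 by norm_num, pow_add, pow_two, ← map_mul, ← map_mul, hY, map_one])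
    (by
      rw [hXi]
      apply eq_inv_of_mul_eq_one_left
      rw [← map_mul, ← map_mul, ← map_mul, hXY, map_one])
  rw [pow_two, ← map_mul] at h1
  have h2 : Y * Y ∈ Subgroup.center ↥(SU 3 F 3) := (QuotientGroup.eq_one_iff _).mp h1
  have h3 := Subgroup.mem_center_iff.mp h2 W
  have h4 : (WM F * (YM F * YM F)) 1 2 = ((YM F * YM F) * WM F) 1 2 :=
    congrArg (fun A : ↥(SU 3 F 3) => A.1.1 1 2) h3
  have h5 : (1 : F) = -1 := by
    simpa [WM, YM, Matrix.mul_apply, Fin.sum_univ_succ] using h4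
  refine two_ne F (f := 2) (by rw [hF]; norm_num) ?_
  have : (1 : F) + 1 = 0 := by nth_rewrite 1 [h5]; ring
  rw [← this]; norm_num

end H16.NA
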