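import Cfsg.Agent.Lib.H16.NA4
import Cfsg.Agent.Lib.H16.NA6
import Cfsg.Agent.Lib.H16.NA7
import Cfsg.Agent.Lib.H16.NA8
import Cfsg.Agent.Lib.H16.NA9
import Cfsg.Agent.S0252
import Cfsg.Agent.S0253

/-! The assembly for S2883, the facts with big closures being hypotheses. -/

set_option autoImplicit false
set_option maxHeartbeats 400000

namespace H16.NA
open Cfsg

theorem fm9_cases {q : ℕ} (h : IsFM9 q) : q = 3 ∨ 4 < q := by
  rcases h with ⟨hp, ⟨k, hk, hq⟩ | ⟨k, hk⟩⟩ | h
  · rcases Nat.lt_or_ge k 2 with h1 | h1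
    · left
      have : k = 1 := by omega
      rw [hq, this]; norm_num
    · right
      have : 2 ^ 2 ≤ 2 ^ k := Nat.pow_le_pow_right (by norm_num) h1
      omega
  · have h2 := hp.two_le
    rcases Nat.lt_or_ge k 3 with h1 | h1
    · left
      interval_cases k <;> omega
    · right
      have : 2 ^ 3 ≤ 2 ^ k := Nat.pow_le_pow_right (by norm_num) h1
      omega
  · right; omega

theorem core {K : Type*} [Group K] [Finite K] (hK : InC 2 K) (hab : AbS (K ⧸ Subgroup.center K))
    (hBT : IsSimpleGroup (K ⧸ Subgroup.center K) → IsLieTypeChar 2 (K ⧸ Subgroup.center K) →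
      BT (K ⧸ Subgroup.center K))
    (hTits : Lie.IsoTits (K ⧸ Subgroup.center K) → Subgroup.center K = ⊥)
    (hG2 : ∀ (F : Type) [Field F] [Fintype F], Fintype.card F = 3 →
      Nonempty ((K ⧸ Subgroup.center K) ≃* ↥(Lie.chevG2.group F)) → Subgroup.center K = ⊥)
    (hsp : IsSimpleGroup (K ⧸ Subgroup.center K) → (∃ x y : K ⧸ Subgroup.center K, x * y ≠ y * x) →
      (Spor.IsoJ2 (K ⧸ Subgroup.center K) ∨ Spor.IsoJ3 (K ⧸ Subgroup.center K) ∨
      Spor.IsoJ4 (K ⧸ Subgroup.center K) ∨ Spor.IsoHS (K ⧸ Subgroup.center K) ∨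
      Spor.IsoSuz (K ⧸ Subgroup.center K) ∨ Spor.IsoRu (K ⧸ Subgroup.center K) ∨
      Spor.IsoCo1 (K ⧸ Subgroup.center K) ∨ Spor.IsoCo2 (K ⧸ Subgroup.center K) ∨
      Spor.IsoFi22 (K ⧸ Subgroup.center K) ∨ Spor.IsoFi23 (K ⧸ Subgroup.center K) ∨
      Spor.IsoFi24' (K ⧸ Subgroup.center K) ∨ Spor.IsoTh (K ⧸ Subgroup.center K) ∨
      Spor.IsoB (K ⧸ Subgroup.center K) ∨ Spor.IsoM (K ⧸ Subgroup.center K)) →
      Subgroup.center K = ⊥) : Subgroup.center K = ⊥ := by
  obtain ⟨hq, h2, hl, hex⟩ := hK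
  have hs : IsSimpleGroup (K ⧸ Subgroup.center K) := hq.2
  have hper : commutator K = ⊤ := hq.1.1
  have hperQ : commutator (K ⧸ Subgroup.center K) = ⊤ := by
    have h3 := Subgroup.map_commutator (⊤ : Subgroup K) ⊤ (QuotientGroup.mk' (Subgroup.center K))
    rw [← commutator_def, hper, Subgroup.map_top_of_surjective _ (QuotientGroup.mk'_surjective _)] at h3
    rw [commutator_def]
    exact h3.symm
  have hns : ¬ Group.IsSolvable (K ⧸ Subgroup.center K) := by
    intro h
    haveI := hs.toNontrivial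
    exact (Group.IsSolvable.commutator_lt_top_of_nontrivial (K ⧸ Subgroup.center K)).ne hperQ
  have hnc : ∃ x y : K ⧸ Subgroup.center K, x * y ≠ y * x := by
    by_contra hcon
    push Not at hcon
    apply hns
    letI : CommGroup (K ⧸ Subgroup.center K) :=
      { (inferInstance : Group (K ⧸ Subgroup.center K)) with mul_comm := hcon }
    exact (inferInstance : Group.IsSolvable (K ⧸ Subgroup.center K))
  -- the exceptional cover SL2(q)
  have hexc : ∀ (F : Type) [Field F] [Fintype F], IsFM9 (Fintype.card F) →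
      ¬ Nonempty (K ≃* Matrix.SpecialLinearGroup (Fin 2) F) := by
    intro F _ _ hF he
    exact hex (Or.inl ⟨rfl, Or.inl ⟨F, _, _, hF, he⟩⟩)
  have hfive : ∀ (F : Type) [Field F] [Fintype F], Fintype.card F = 5 →
      Nonempty ((K ⧸ Subgroup.center K) ≃* Matrix.ProjectiveSpecialLinearGroup (Fin 2) F) →
      Subgroup.center K = ⊥ := by
    intro F _ _ hF ⟨e⟩
    refine psl2_odd hq h2 (by omega) e (hexc F ?_)
    rw [hF]
    exact Or.inl ⟨by norm_num, Or.inl ⟨2, by norm_num, by norm_num⟩⟩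
  have hfour : ∀ (F : Type) [Field F] [Fintype F], Fintype.card F = 4 →
      Nonempty ((K ⧸ Subgroup.center K) ≃* Matrix.ProjectiveSpecialLinearGroup (Fin 2) F) →
      Subgroup.center K = ⊥ := by
    intro F _ _ hF ⟨e⟩
    haveI : Fact (Nat.Prime 5) := ⟨by norm_num⟩
    obtain ⟨e1⟩ := Cfsg.Agent.S0252.result hF
    obtain ⟨e2⟩ := Cfsg.Agent.S0253.result (F := ZMod 5) (ZMod.card 5)
    exact hfive (ZMod 5) (ZMod.card 5) ⟨(e.trans e1).trans e2.symm⟩
  rcases hl with h | ⟨n, hn, ⟨e⟩⟩ | ⟨-, h⟩ | ⟨h, -⟩ | ⟨h, -⟩ | ⟨h, -⟩ | ⟨h, -⟩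
  · rcases h with h | ⟨-, h⟩ | ⟨h, -⟩
    · obtain ⟨F, iF, iF', hq', ⟨e⟩⟩ := psl_of_BT hs hns hab (hBT hs h)
      rcases hq' with ⟨h8, h5⟩ | ⟨n, hn, hFn⟩
      · have h5' := five_of_BT hab (hBT hs h) h8 h5 e
        exact hfive F h5' ⟨e⟩
      · rcases Nat.lt_or_ge n 3 with hn3 | hn3
        · have hn2 : n = 2 := by omega
          rw [hn2] at hFn
          exact hfour F hFn ⟨e⟩
        · refine psl2_even hq h2 ?_ (by omega) hFn e
          rw [hFn]
          have : 2 ^ 3 ≤ 2 ^ n := Nat.pow_le_pow_right (by norm_num) hn3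
          omega
    · rcases h with ⟨⟨e⟩⟩ | ⟨F, _, _, hF, ⟨e⟩⟩ | h
      · exact (a6_false e hab).elim
      · exact (psu3_false hF e hab).elim
      · exact hTits h
    · exact absurd h (by norm_num)
  · have hn' : n = 2 ∨ n = 4 ∨ n = 6 := by omega
    have hA : n ≠ 2 ∧ n ≠ 4 := by
      constructor
      · intro h0
        haveI := alt_solv (n := n) (Or.inl h0)
        apply hns
        exact Group.isSolvable_of_surjective (f := e.symm.toMonoidHom) e.symm.surjective
      · intro h0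
        haveI := alt_solv (n := n) (Or.inr h0)
        apply hns
        exact Group.isSolvable_of_surjective (f := e.symm.toMonoidHom) e.symm.surjective
    have hn6 : n = 6 := by omega
    subst hn6
    exact (a6_false e hab).elim
  · rcases h with ⟨F, _, _, hF, ⟨e⟩⟩ | ⟨F, _, _, hF, h⟩ | ⟨F, _, _, hF, ⟨e⟩⟩ | h | h | h | h | h | h
    · rcases fm9_cases hF with h3 | h4
      · exfalso
        haveI := psl2_three_solv h3
        apply hns
        exact Group.isSolvable_of_surjective (f := e.symm.toMonoidHom) e.symm.surjective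
      · exact psl2_odd hq h2 h4 e (hexc F hF)
    · rcases h with ⟨⟨e⟩⟩ | ⟨⟨e⟩⟩ | h
      · exact (psl3_false hF e hab).elim
      · exact (psl4_false hF e hab).elim
      · exact hG2 F hF h
    · exact (psu4_false hF e hab).elim
    · exact (m11_false h hab).elim
    · exact (m12_false h hab).elim
    · exact (m22_false h hab).elim
    · exact (m23_false h hab).elim
    · exact (m24_false h hab).elim
    · exact hsp hs hnc h
  · exact absurd h (by norm_num)
  · exact absurd h (by norm_num)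
  · exact absurd h (by norm_num)
  · exact absurd h (by norm_num)

end H16.NA
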