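import Cfsg.Agent.Lib.H16.NA10

/-! The `BT` case of S2883 as a separate lemma. -/

set_option autoImplicit false
set_option maxHeartbeats 400000

namespace H16.NA
open Cfsg

theorem of_BT {K : Type*} [Group K] [Finite K] (hK : InC 2 K) (hab : AbS (K ⧸ Subgroup.center K))
    (hb : BT (K ⧸ Subgroup.center K)) : Subgroup.center K = ⊥ := by
  obtain ⟨hq, h2, hl, hex⟩ := hK
  have hs : IsSimpleGroup (K ⧸ Subgroup.center K) := hq.2
  have hper : commutator K = ⊤ := hq.1.1
  have hperQ : commutator (K ⧸ Subgroup.center K) = ⊤ := by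
    have h3 := Subgroup.map_commutator (⊤ : Subgroup K) ⊤ (QuotientGroup.mk' (Subgroup.center K))
    rw [← commutator_def, hper, Subgroup.map_top_of_surjective _ (QuotientGroup.mk'_surjective _)] at h3
    rw [commutator_def]
    exact h3.symm
  have hns : ¬ Group.IsSolvable (K ⧸ Subgroup.center K) := by
    intro h
    haveI := hs.toNontrivial
    exact (Group.IsSolvable.commutator_lt_top_of_nontrivial (K ⧸ Subgroup.center K)).ne hperQ
  have hexc : ∀ (F : Type) [Field F] [Fintype F], IsFM9 (Fintype.card F) →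
      ¬ Nonempty (K ≃* Matrix.SpecialLinearGroup (Fin 2) F) := by
    intro F _ _ hF he
    exact hex (Or.inl ⟨rfl, Or.inl ⟨F, _, _, hF, he⟩⟩)
  have hfive : ∀ (F : Type) [Field F] [Fintype F], Fintype.card F = 5 →
      Nonempty ((K ⧸ Subgroup.center K) ≃* Matrix.ProjectiveSpecialLinearGroup (Fin 2) F) →
      Subgroup.center K = ⊥ := by
    intro F _ _ hF ⟨e⟩
    refine psl2_odd hq h2 (by omega) e (hexc F ?_)
    rw [hF]
    exact Or.inl ⟨by norm_num, Or.inl ⟨2, by norm_num, by norm_num⟩⟩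
  have hfour : ∀ (F : Type) [Field F] [Fintype F], Fintype.card F = 4 →
      Nonempty ((K ⧸ Subgroup.center K) ≃* Matrix.ProjectiveSpecialLinearGroup (Fin 2) F) →
      Subgroup.center K = ⊥ := by
    intro F _ _ hF ⟨e⟩
    haveI : Fact (Nat.Prime 5) := ⟨by norm_num⟩
    obtain ⟨e1⟩ := Cfsg.Agent.S0252.result hF
    obtain ⟨e2⟩ := Cfsg.Agent.S0253.result (F := ZMod 5) (ZMod.card 5)
    exact hfive (ZMod 5) (ZMod.card 5) ⟨(e.trans e1).trans e2.symm⟩
  obtain ⟨F, iF, iF', hq', ⟨e⟩⟩ := psl_of_BT hs hns hab hb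
  rcases hq' with ⟨h8, h5⟩ | ⟨n, hn, hFn⟩
  · have h5' := five_of_BT hab hb h8 h5 e
    exact hfive F h5' ⟨e⟩
  · rcases Nat.lt_or_ge n 3 with hn3 | hn3
    · have hn2 : n = 2 := by omega
      rw [hn2] at hFn
      exact hfour F hFn ⟨e⟩
    · refine psl2_even hq h2 ?_ (by omega) hFn e
      rw [hFn]
      have : 2 ^ 3 ≤ 2 ^ n := Nat.pow_le_pow_right (by norm_num) hn3
      omega

end H16.NA
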