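import Cfsg.Prelude.Def_KGroupFacts
import Cfsg.Prelude.Def_EvenType
import Cfsg.Agent.Lib.H16.NA1

/-! Centres of quasisimple groups from Schur multiplier statements. -/

set_option autoImplicit false
set_option maxHeartbeats 400000

namespace H16.NA

open Cfsg

/-- A quasisimple `K` with `K/Z(K) ≅ A`: `|Z(K)|` divides the order of the (cyclic) multiplier. -/
theorem mult_dvd {K : Type*} [Group K] [Finite K] (hK : IsQuasisimple K) {A : Type} [Group A]
    (e : (K ⧸ Subgroup.center K) ≃* A) {n : ℕ} (hm : HasCyclicSchurMultiplier A n) :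
    Nat.card ↥(Subgroup.center K) ∣ n := by
  classical
  haveI : Small.{0} K := inferInstance
  let f : Shrink.{0} K ≃* K := Shrink.mulEquiv
  haveI : Finite (Shrink.{0} K) := Finite.of_equiv K f.symm.toEquiv
  let σ : Shrink.{0} K →* A :=
    (e.toMonoidHom.comp (QuotientGroup.mk' (Subgroup.center K))).comp f.toMonoidHom
  have hker : ∀ x : Shrink.{0} K, x ∈ σ.ker ↔ f x ∈ Subgroup.center K := by
    intro x
    rw [MonoidHom.mem_ker]
    show e (QuotientGroup.mk (f x)) = 1 ↔ _
    rw [map_eq_one_iff e e.injective, QuotientGroup.eq_one_iff]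
  have hst : IsStemExtension σ := by
    refine ⟨?_, ?_, ?_⟩
    · intro a
      obtain ⟨k, hk⟩ := QuotientGroup.mk_surjective (e.symm a)
      refine ⟨f.symm k, ?_⟩
      show e (QuotientGroup.mk (f (f.symm k))) = a
      rw [MulEquiv.apply_symm_apply, hk, MulEquiv.apply_symm_apply]
    · intro x hx
      rw [hker] at hx
      rw [Subgroup.mem_center_iff] at hx ⊢
      intro g
      apply f.injective
      rw [map_mul, map_mul]
      exact hx (f g)
    · have h1 : commutator (Shrink.{0} K) = ⊤ := by
        have h2 : commutator K = ⊤ := hK.1.1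
        have h3 := Subgroup.map_commutator (⊤ : Subgroup K) ⊤ f.symm.toMonoidHom
        rw [commutator_def] at h2
        rw [h2] at h3
        have h4 : (⊤ : Subgroup K).map f.symm.toMonoidHom = ⊤ :=
          Subgroup.map_top_of_surjective _ f.symm.surjective
        rw [h4] at h3
        rw [commutator_def]
        exact h3.symm
      rw [h1]
      exact le_top
  obtain ⟨π, hπ⟩ := hm.2 (Shrink.{0} K) σ hst
  have h5 := Subgroup.card_dvd_of_surjective π hπ
  have h6 : Nat.card ↥σ.ker = Nat.card ↥(Subgroup.center K) := by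
    refine Nat.card_congr (f.toEquiv.subtypeEquiv ?_)
    intro x
    exact hker x
  rw [h6] at h5
  have h7 : Nat.card (Multiplicative (ZMod n)) = n := by
    rw [Nat.card_congr Multiplicative.toAdd, Nat.card_zmod]
  rwa [h7] at h5

theorem center_bot_of_odd {K : Type*} [Group K] [Finite K] (hK : IsQuasisimple K)
    (h2 : IsPGroup 2 ↥(Subgroup.center K)) {A : Type} [Group A]
    (e : (K ⧸ Subgroup.center K) ≃* A) {n : ℕ} (hn : Odd n)
    (hm : HasCyclicSchurMultiplier A n) : Subgroup.center K = ⊥ := by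
  have h1 := mult_dvd hK e hm
  obtain ⟨k, hk⟩ := IsPGroup.iff_card.mp h2
  rw [hk] at h1
  rcases Nat.eq_zero_or_pos k with h0 | h0
  · rw [h0, pow_zero] at hk
    exact Subgroup.eq_bot_of_card_eq _ hk
  · exfalso
    have h3 : 2 ∣ n := dvd_trans (dvd_pow_self 2 (by omega)) h1
    rcases hn with ⟨m, hm⟩
    omega

/-- A perfect central extension `L → A` with odd multiplier maps onto `K`. -/
theorem exists_cover {K : Type*} [Group K] [Finite K] (hK : IsQuasisimple K)
    (h2 : IsPGroup 2 ↥(Subgroup.center K)) {A L : Type} [Group A] [Group L] [Finite L]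
    (hL : commutator L = ⊤) (τ : L →* A) (hτ : Function.Surjective τ)
    (e : (K ⧸ Subgroup.center K) ≃* A) {n : ℕ} (hn : Odd n)
    (hm : HasCyclicSchurMultiplier L n) :
    ∃ f : L →* K, Function.Surjective f ∧ ∀ l : L, e (QuotientGroup.mk (f l)) = τ l := by
  classical
  haveI : Small.{0} K := inferInstance
  let f : Shrink.{0} K ≃* K := Shrink.mulEquiv
  haveI : Finite (Shrink.{0} K) := Finite.of_equiv K f.symm.toEquiv
  let σ : Shrink.{0} K →* A :=
    (e.toMonoidHom.comp (QuotientGroup.mk' (Subgroup.center K))).comp f.toMonoidHom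
  have hσ : Function.Surjective σ := by
    intro a
    obtain ⟨k, hk⟩ := QuotientGroup.mk_surjective (e.symm a)
    refine ⟨f.symm k, ?_⟩
    show e (QuotientGroup.mk (f (f.symm k))) = a
    rw [MulEquiv.apply_symm_apply, hk, MulEquiv.apply_symm_apply]
  have hker : ∀ x : Shrink.{0} K, σ x = 1 ↔ f x ∈ Subgroup.center K := by
    intro x
    show e (QuotientGroup.mk (f x)) = 1 ↔ _
    rw [map_eq_one_iff e e.injective, QuotientGroup.eq_one_iff]
  have hcK : commutator (Shrink.{0} K) = ⊤ := by
    have h2 : commutator K = ⊤ := hK.1.1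
    have h3 := Subgroup.map_commutator (⊤ : Subgroup K) ⊤ f.symm.toMonoidHom
    rw [commutator_def] at h2
    rw [h2] at h3
    have h4 : (⊤ : Subgroup K).map f.symm.toMonoidHom = ⊤ :=
      Subgroup.map_top_of_surjective _ f.symm.surjective
    rw [h4] at h3
    rw [commutator_def]
    exact h3.symm
  -- the fibre product
  let P : Subgroup (Shrink.{0} K × L) :=
    MonoidHom.eqLocus (σ.comp (MonoidHom.fst _ _)) (τ.comp (MonoidHom.snd _ _))
  have hP : ∀ x : Shrink.{0} K × L, x ∈ P ↔ σ x.1 = τ x.2 := fun x => Iff.rfl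
  let p2 : ↥P →* L := (MonoidHom.snd _ _).comp P.subtype
  let p1 : ↥P →* Shrink.{0} K := (MonoidHom.fst _ _).comp P.subtype
  have hp2 : Function.Surjective p2 := by
    intro l
    obtain ⟨k, hk⟩ := hσ (τ l)
    exact ⟨⟨(k, l), hk⟩, rfl⟩
  have hp1 : Function.Surjective p1 := by
    intro k
    obtain ⟨l, hl⟩ := hτ (σ k)
    exact ⟨⟨(k, l), hl.symm⟩, rfl⟩
  let D : Subgroup ↥P := commutator ↥P
  have hD2 : D.map p2 = ⊤ := by
    show (commutator ↥P).map p2 = ⊤
    rw [commutator_def, Subgroup.map_commutator, Subgroup.map_top_of_surjective _ hp2,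
      ← commutator_def, hL]
  have hD1 : D.map p1 = ⊤ := by
    show (commutator ↥P).map p1 = ⊤
    rw [commutator_def, Subgroup.map_commutator, Subgroup.map_top_of_surjective _ hp1,
      ← commutator_def, hcK]
  have hZ : p2.ker ≤ Subgroup.center ↥P := by
    rintro ⟨⟨k, l⟩, hkl⟩ hx
    have hl : l = 1 := hx
    have hk : σ k = 1 := by
      have h1 : σ k = τ l := hkl
      rw [h1, hl, map_one]
    have hkc := (hker k).mp hk
    rw [Subgroup.mem_center_iff]
    rintro ⟨⟨k', l'⟩, hkl'⟩
    apply Subtype.ext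
    apply Prod.ext
    · show k' * k = k * k'
      apply f.injective
      rw [map_mul, map_mul]
      exact Subgroup.mem_center_iff.mp hkc (f k')
    · show l' * l = l * l'
      rw [hl, mul_one, one_mul]
  have hDZ : D ⊔ p2.ker = ⊤ := by
    have h1 : (D.map p2).comap p2 = ⊤ := by rw [hD2]; rfl
    rwa [Subgroup.comap_map_eq] at h1
  have hDD : ⁅D, D⁆ = D := by
    have h1 : ∀ x y : ↥P, x * y * x⁻¹ * y⁻¹ ∈ ⁅D, D⁆ := by
      intro x y
      have hx : x ∈ D ⊔ p2.ker := by rw [hDZ]; trivial
      have hy : y ∈ D ⊔ p2.ker := by rw [hDZ]; trivial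
      rw [Subgroup.mem_sup_of_normal_right] at hx hy
      obtain ⟨d, hd, z, hz, rfl⟩ := hx
      obtain ⟨d', hd', z', hz', rfl⟩ := hy
      have hzc := Subgroup.mem_center_iff.mp (hZ hz)
      have hzc' := Subgroup.mem_center_iff.mp (hZ hz')
      have h2 : d * z * (d' * z') * (d * z)⁻¹ * (d' * z')⁻¹ = d * d' * d⁻¹ * d'⁻¹ := by
        have e1 : d * z * (d' * z') = (d * d') * (z * z') := by
          calc d * z * (d' * z') = d * (z * d') * z' := by group
            _ = d * (d' * z) * z' := by rw [hzc d']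
            _ = (d * d') * (z * z') := by group
        have e2 : (d * z)⁻¹ * (d' * z')⁻¹ = (z * z')⁻¹ * (d⁻¹ * d'⁻¹) := by
          have e3 : d' * z' * (d * z) = (d' * d) * (z * z') := by
            calc d' * z' * (d * z) = d' * (z' * d) * z := by group
              _ = d' * (d * z') * z := by rw [hzc' d]
              _ = (d' * d) * (z' * z) := by group
              _ = (d' * d) * (z * z') := by rw [hzc z']
          calc (d * z)⁻¹ * (d' * z')⁻¹ = (d' * z' * (d * z))⁻¹ := by group
            _ = ((d' * d) * (z * z'))⁻¹ := by rw [e3]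
            _ = (z * z')⁻¹ * (d⁻¹ * d'⁻¹) := by group
        calc d * z * (d' * z') * (d * z)⁻¹ * (d' * z')⁻¹
            = (d * z * (d' * z')) * ((d * z)⁻¹ * (d' * z')⁻¹) := by group
          _ = ((d * d') * (z * z')) * ((z * z')⁻¹ * (d⁻¹ * d'⁻¹)) := by rw [e1, e2]
          _ = d * d' * d⁻¹ * d'⁻¹ := by group
      rw [h2]
      exact Subgroup.commutator_mem_commutator hd hd'
    apply le_antisymm
    · exact (Subgroup.commutator_mono le_top le_top).trans (by
        show ⁅(⊤ : Subgroup ↥P), ⊤⁆ ≤ commutator ↥P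
        rw [commutator_def])
    · show commutator ↥P ≤ _
      rw [commutator_def, Subgroup.commutator_le]
      intro x _ y _
      have := h1 x y
      rwa [commutatorElement_def]
  -- the stem extension D → L
  let q : ↥D →* L := p2.comp D.subtype
  have hq : Function.Surjective q := by
    intro l
    have h1 : l ∈ D.map p2 := by rw [hD2]; trivial
    obtain ⟨d, hd, hdl⟩ := h1
    exact ⟨⟨d, hd⟩, hdl⟩
  have hst : IsStemExtension q := by
    refine ⟨hq, ?_, ?_⟩
    · rintro ⟨d, hd⟩ hx
      have h1 : d ∈ p2.ker := hx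
      have h2 := Subgroup.mem_center_iff.mp (hZ h1)
      rw [Subgroup.mem_center_iff]
      rintro ⟨g, hg⟩
      exact Subtype.ext (h2 g)
    · have h1 : commutator ↥D = ⊤ := by
        rw [commutator_def]
        apply Subgroup.map_injective D.subtype_injective
        rw [Subgroup.map_commutator]
        have h2 : (⊤ : Subgroup ↥D).map D.subtype = D := by
          rw [← MonoidHom.range_eq_map, Subgroup.range_subtype]
        rw [h2, hDD]
      rw [h1]
      exact le_top
  obtain ⟨π, hπ⟩ := hm.2 ↥D q hst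
  have hcard : Nat.card ↥q.ker ∣ n := by
    have h5 := Subgroup.card_dvd_of_surjective π hπ
    have h7 : Nat.card (Multiplicative (ZMod n)) = n := by
      rw [Nat.card_congr Multiplicative.toAdd, Nat.card_zmod]
    rwa [h7] at h5
  have hqP : IsPGroup 2 ↥q.ker := by
    let g : ↥q.ker →* ↥(Subgroup.center K) :=
      { toFun := fun x => ⟨f x.1.1.1.1, by
          have hx2 : x.1.1.1.2 = 1 := x.2
          have h1 : σ x.1.1.1.1 = τ x.1.1.1.2 := x.1.1.2
          rw [hx2, map_one] at h1
          exact (hker _).mp h1⟩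
        map_one' := by
          apply Subtype.ext
          show f 1 = 1
          exact map_one f
        map_mul' := by
          intro x y
          apply Subtype.ext
          show f (x.1.1.1.1 * y.1.1.1.1) = _
          rw [map_mul]
          rfl }
    refine h2.of_injective g ?_
    intro x y hxy
    have h1 : f x.1.1.1.1 = f y.1.1.1.1 := congrArg Subtype.val hxy
    have h2 := f.injective h1
    have hx2 : x.1.1.1.2 = 1 := x.2
    have hy2 : y.1.1.1.2 = 1 := y.2
    apply Subtype.ext
    apply Subtype.ext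
    apply Subtype.ext
    exact Prod.ext h2 (hx2.trans hy2.symm)
  have hqb : q.ker = ⊥ := by
    obtain ⟨k, hk⟩ := IsPGroup.iff_card.mp hqP
    rw [hk] at hcard
    rcases Nat.eq_zero_or_pos k with h0 | h0
    · rw [h0, pow_zero] at hk
      exact Subgroup.eq_bot_of_card_eq _ hk
    · exfalso
      have h3 : 2 ∣ n := dvd_trans (dvd_pow_self 2 (by omega)) hcard
      rcases hn with ⟨m, hm⟩
      omega
  have hqi : Function.Injective q := (MonoidHom.ker_eq_bot_iff q).mp hqb
  let qe : ↥D ≃* L := MulEquiv.ofBijective q ⟨hqi, hq⟩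
  let r : ↥D →* Shrink.{0} K := p1.comp D.subtype
  refine ⟨f.toMonoidHom.comp (r.comp qe.symm.toMonoidHom), ?_, ?_⟩
  · intro k
    have h1 : f.symm k ∈ D.map p1 := by rw [hD1]; trivial
    obtain ⟨d, hd, hdl⟩ := h1
    refine ⟨qe ⟨d, hd⟩, ?_⟩
    show f (r (qe.symm (qe ⟨d, hd⟩))) = k
    rw [MulEquiv.symm_apply_apply]
    show f (p1 d) = k
    rw [hdl, MulEquiv.apply_symm_apply]
  · intro l
    obtain ⟨d, hd⟩ := qe.surjective l
    have h1 : qe.symm l = d := by rw [← hd, MulEquiv.symm_apply_apply]
    show e (QuotientGroup.mk (f (r (qe.symm l)))) = τ l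
    rw [h1]
    have h2 : σ d.1.1.1 = τ d.1.1.2 := d.1.2
    have h3 : d.1.1.2 = l := hd
    rw [← h3, ← h2]
    rfl

end H16.NA
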