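import Cfsg.Agent.Lib.H16.NA1
import Cfsg.Agent.Lib.H40.OutM12
import Cfsg.Agent.Lib.H40.OutM22

/-! Nonabelian Sylow 2-subgroups of `M12`, `M22`. -/

set_option autoImplicit false
set_option maxHeartbeats 400000
set_option maxRecDepth 100000

namespace H16.NA
open H40.PermCode H40.MathieuBase

theorem false_of_codes {H : Subgroup (Equiv.Perm Cfsg.GolayPt)} (h : AbS ↥H) {x y : Equiv.Perm Cfsg.GolayPt}
    (hxm : x ∈ H) (hym : y ∈ H) {cx cy cyi : ℕ} (hx : Rep E24 5 x cx) (hy : Rep E24 5 y cy)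
    (hyi : Rep E24 5 y⁻¹ cyi)
    (h1 : isOne 5 24 (comp 5 24 cx cx) = true)
    (h2 : isOne 5 24 (comp 5 24 (comp 5 24 cy cy) (comp 5 24 cy cy)) = true)
    (h3 : eqc 5 24 (comp 5 24 (comp 5 24 cx cy) cx) cyi = true)
    (h4 : isOne 5 24 (comp 5 24 cy cy) = false) : False := by
  have e1 : x * x = 1 := ((hx.mul hx).isOne_iff).1 h1
  have e2 : y * y * (y * y) = 1 := (((hy.mul hy).mul (hy.mul hy)).isOne_iff).1 h2
  have e3 : x * y * x = y⁻¹ := (((hx.mul hy).mul hx).eq_iff hyi).1 h3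
  have e4 : y * y ≠ 1 := by
    intro h
    have := ((hy.mul hy).isOne_iff).2 h
    rw [h4] at this
    exact Bool.noConfusion this
  haveI : Finite (Equiv.Perm Cfsg.GolayPt) := inferInstance
  have hxi : x⁻¹ = x := inv_eq_of_mul_eq_one_left e1
  have h5 := sq_of_inv h (x := (⟨x, hxm⟩ : ↥H)) (y := ⟨y, hym⟩) (k := 1) (l := 2)
    (Subtype.ext (by show x ^ (2 ^ 1) = 1; rw [pow_one, pow_two]; exact e1))
    (Subtype.ext (by
      show y ^ (2 ^ 2) = 1
      have : y ^ (2 ^ 2) = y * y * (y * y) := by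
        rw [show (2 ^ 2 : ℕ) = 2 + 2 by norm_num, pow_add, pow_two]
      rw [this]; exact e2))
    (Subtype.ext (by show x * y * x⁻¹ = y⁻¹; rw [hxi]; exact e3))
  have h6 : y ^ 2 = 1 := congrArg Subtype.val h5
  exact e4 (by rw [← pow_two]; exact h6)

theorem okx22 : okc 5 24 0xbc9669d9d04452caa9af250a710c20 0xbc9669d9d04452caa9af250a710c20 = true := by
  decide +kernel
theorem oky22 : okc 5 24 0xbc96950da5410cc7cdd589e1415820 0xb8904558e55a62cace8f3360e90c20 = true := by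
  decide +kernel

theorem m22_false {K : Type*} [Group K] [Finite K] (hK : Cfsg.Spor.IsoM22 K) (h : AbS K) : False := by
  obtain ⟨e⟩ := hK
  have h' : AbS ↥Cfsg.Spor.M22 := h.of_equiv e.symm
  refine false_of_codes h' (x := ofCode E24 5 _ _ okx22) (y := ofCode E24 5 _ _ oky22) ?_ ?_
    (rep_ofCode _) (rep_ofCode _) (rep_ofCode_inv _) ?_ ?_ ?_ ?_
  · refine H40.OutM22.mem22_of_rep (rep_ofCode okx22) ?_ ?_ ?_ <;> decide +kernel
  · refine H40.OutM22.mem22_of_rep (rep_ofCode oky22) ?_ ?_ ?_ <;> decide +kernel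
  all_goals decide +kernel

theorem okx12 : okc 5 24 0xbd1d69a2303d461595327914668980 0xbd1d69a2303d461595327914668980 = true := by
  decide +kernel
theorem oky12 : okc 5 24 0xa5dd3b49703a86d894887a6a209980 0xb4cb7a49703d5818b8c87894969060 = true := by
  decide +kernel

theorem m12_false {K : Type*} [Group K] [Finite K] (hK : Cfsg.Spor.IsoM12 K) (h : AbS K) : False := by
  obtain ⟨e⟩ := hK
  have h' : AbS ↥Cfsg.Spor.M12 := h.of_equiv e.symm
  refine false_of_codes h' (x := ofCode E24 5 _ _ okx12) (y := ofCode E24 5 _ _ oky12) ?_ ?_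
    (rep_ofCode _) (rep_ofCode _) (rep_ofCode_inv _) ?_ ?_ ?_ ?_
  · refine H40.OutM12.mem12_of_rep (rep_ofCode okx12) ?_ ?_ <;> decide +kernel
  · refine H40.OutM12.mem12_of_rep (rep_ofCode oky12) ?_ ?_ <;> decide +kernel
  all_goals decide +kernel

end H16.NA
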